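import Cfsg.Agent.Lib.Perm.WielandtTwoP.Classes
import Mathlib.GroupTheory.GroupAction.MultipleTransitivity

/-!
# Wielandt's theorem on the subdegrees in degree `2 p`
-/

set_option autoImplicit false
set_option linter.all false

namespace CfsgLib.Perm.WielandtTwoP

open Finset Matrix
open scoped Matrix

section regular

variable {G : Type*} [Group G] [Finite G] {α : Type*} [MulAction G α] [MulAction.IsPreprimitive G α]
  [FaithfulSMul G α]

/-- in a primitive group of even degree a point stabilizer fixes no second point -/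
theorem eq_of_fixed_even [Nontrivial α] [Finite α] (heven : 2 ∣ Nat.card α) (h4 : 4 ≤ Nat.card α) {a w : α}
    (h : ∀ g : G, g • a = a → g • w = w) : w = a := by
  by_contra hne
  have hA := MulAction.IsPreprimitive.isCoatom_stabilizer_of_isPreprimitive (G := G) a
  have hW := MulAction.IsPreprimitive.isCoatom_stabilizer_of_isPreprimitive (G := G) w
  have heq : MulAction.stabilizer G a = MulAction.stabilizer G w := by
    by_contra hne'
    exact hW.1 (hA.2 _ (lt_of_le_of_ne (fun g hg => h g hg) hne'))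
  obtain ⟨g₀, hg₀⟩ := MulAction.exists_smul_eq G a w
  have hg0 : g₀ ∉ MulAction.stabilizer G a := fun hg => hne (hg₀.symm.trans hg)
  have hN : g₀ ∈ Subgroup.normalizer ((MulAction.stabilizer G a : Subgroup G) : Set G) := by
    rw [Subgroup.mem_set_normalizer_iff]
    intro k
    constructor
    · intro hk
      show g₀ * k * g₀⁻¹ ∈ MulAction.stabilizer G a
      rw [heq, MulAction.mem_stabilizer_iff, mul_smul, mul_smul, ← hg₀, inv_smul_smul]
      rw [hk]
    · intro hk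
      have hk' : g₀ * k * g₀⁻¹ ∈ MulAction.stabilizer G w := heq ▸ hk
      rw [MulAction.mem_stabilizer_iff, mul_smul, mul_smul, ← hg₀, inv_smul_smul, smul_left_cancel_iff] at hk'
      exact hk'
  have htop : Subgroup.normalizer ((MulAction.stabilizer G a : Subgroup G) : Set G) = ⊤ :=
    hA.2 _ (lt_of_le_of_ne Subgroup.le_normalizer fun e => hg0 (e ▸ hN))
  haveI := Subgroup.normalizer_eq_top_iff.1 htop
  have hbot : MulAction.stabilizer G a = ⊥ := by
    refine (Subgroup.eq_bot_iff_forall _).2 fun k hk => FaithfulSMul.eq_of_smul_eq_smul (α := α) fun y => ?_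
    obtain ⟨g, rfl⟩ := MulAction.exists_smul_eq G a y
    have h1 : g⁻¹ * k * g⁻¹⁻¹ ∈ MulAction.stabilizer G a :=
      (inferInstance : (MulAction.stabilizer G a).Normal).conj_mem k hk g⁻¹
    rw [inv_inv, MulAction.mem_stabilizer_iff, mul_smul, mul_smul, inv_smul_eq_iff] at h1
    rw [one_smul, h1]
  rw [hbot] at hA
  have hc : Nat.card G = Nat.card α := Nat.card_congr (Equiv.ofBijective (fun g : G => g • a)
    ⟨fun g k hgk => by
      have h1 : k⁻¹ * g ∈ MulAction.stabilizer G a := by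
        rw [MulAction.mem_stabilizer_iff, mul_smul, inv_smul_eq_iff]; exact hgk
      rw [hbot, Subgroup.mem_bot, inv_mul_eq_one] at h1
      exact h1.symm,
    fun y => MulAction.exists_smul_eq G a y⟩)
  obtain ⟨y, hy⟩ := exists_prime_orderOf_dvd_card' (G := G) 2 (hc ▸ heven)
  have h2 : Subgroup.zpowers y = ⊤ := hA.2 _ (bot_lt_iff_ne_bot.2 fun e => by
    rw [Subgroup.zpowers_eq_bot] at e
    rw [e, orderOf_one] at hy
    omega)
  have := congrArg (fun H : Subgroup G => Nat.card H) h2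
  simp only [Nat.card_zpowers, hy, Subgroup.card_top, hc] at this
  omega

end regular

universe u

variable {G : Type u} [Group G] [Finite G] {α : Type*} [MulAction G α] [Fintype α] [DecidableEq α]

/-- the orbital of `(a, w)` -/
noncomputable def orb (G : Type*) [Group G] {α : Type*} [MulAction G α] (a w : α) : Matrix α α ℤ :=
  fun y z => by classical exact if ∃ g : G, g • a = y ∧ g • w = z then 1 else 0

theorem orb_one {a w y z : α} (h : ∃ g : G, g • a = y ∧ g • w = z) : orb G a w y z = 1 := by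
  simp only [orb]; exact if_pos h

theorem orb_zero {a w y z : α} (h : ¬ ∃ g : G, g • a = y ∧ g • w = z) : orb G a w y z = 0 := by
  simp only [orb]; exact if_neg h

theorem orb_cases (a w y z : α) :
    (orb G a w y z = 1 ∧ ∃ g : G, g • a = y ∧ g • w = z) ∨ (orb G a w y z = 0 ∧ ¬ ∃ g : G, g • a = y ∧ g • w = z) := by
  by_cases h : ∃ g : G, g • a = y ∧ g • w = z
  · exact Or.inl ⟨orb_one h, h⟩
  · exact Or.inr ⟨orb_zero h, h⟩

theorem inv_orb (a w : α) : Inv G (orb G a w) := by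
  intro k y z
  have h : (∃ g : G, g • a = k • y ∧ g • w = k • z) ↔ ∃ g : G, g • a = y ∧ g • w = z := by
    constructor
    · rintro ⟨g, h1, h2⟩
      exact ⟨k⁻¹ * g, by rw [mul_smul, h1, inv_smul_smul], by rw [mul_smul, h2, inv_smul_smul]⟩
    · rintro ⟨g, h1, h2⟩
      exact ⟨k * g, by rw [mul_smul, h1], by rw [mul_smul, h2]⟩
  by_cases hex : ∃ g : G, g • a = y ∧ g • w = z
  · rw [orb_one hex, orb_one (h.2 hex)]
  · rw [orb_zero hex, orb_zero (fun e => hex (h.1 e))]

theorem orb_base (a w z : α) :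
    (∃ g : G, g • a = a ∧ g • w = z) ↔ z ∈ MulAction.orbit (MulAction.stabilizer G a) w := by
  constructor
  · rintro ⟨g, h1, h2⟩; exact ⟨⟨g, h1⟩, h2⟩
  · rintro ⟨g, hg⟩; exact ⟨g.1, g.2, hg⟩

theorem orb_nonneg (a w y z : α) : 0 ≤ orb G a w y z := by
  rcases orb_cases (G := G) a w y z with ⟨h, _⟩ | ⟨h, _⟩ <;> omega

theorem orb_disjoint {a w v y z : α} (hv : v ∉ MulAction.orbit (MulAction.stabilizer G a) w) :
    orb G a w y z + orb G a v y z ≤ 1 := by
  rcases orb_cases (G := G) a w y z with ⟨h, g, h1, h2⟩ | ⟨h, _⟩ <;>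
    rcases orb_cases (G := G) a v y z with ⟨h', k, k1, k2⟩ | ⟨h', _⟩ <;> try omega
  refine absurd ((orb_base a w v).1 ⟨k⁻¹ * g, ?_, ?_⟩) hv
  · rw [mul_smul, h1, ← k1, inv_smul_smul]
  · rw [mul_smul, h2, ← k2, inv_smul_smul]

theorem orb_cover [MulAction.IsPretransitive G α] {a w y z : α} (hyz : y ≠ z)
    (h : ∀ v, v ≠ a → v ∈ MulAction.orbit (MulAction.stabilizer G a) w) : orb G a w y z = 1 := by
  obtain ⟨g, rfl⟩ := MulAction.exists_smul_eq G a y
  obtain ⟨k, hk1, hk2⟩ := (orb_base a w (g⁻¹ • z)).2 (h _ fun e => hyz (by rw [← e, smul_inv_smul]))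
  exact orb_one ⟨g * k, by rw [mul_smul, hk1], by rw [mul_smul, hk2, smul_inv_smul]⟩

variable {p : ℕ} [Fact p.Prime]

namespace Coord

variable (D : Coord p G α)

theorem e_ne {d : ZMod p} (hd : d ≠ 0) (i : Fin 2) : D.e (i, 0) ≠ D.e (i, d) := fun h =>
  hd (congrArg Prod.snd (D.e.injective h)).symm

theorem c_of_ne (A : Matrix α α ℤ) {d : ZMod p} (hd : d ≠ 0) :
    D.c A d = A (D.e (0, 0)) (D.e (0, d)) + A (D.e (1, 0)) (D.e (1, d)) := by
  rw [c, if_neg hd, sub_zero]; rfl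

theorem orb_c_nonneg (w : α) {d : ZMod p} (hd : d ≠ 0) : 0 ≤ D.c (orb G D.o w) d := by
  rw [D.c_of_ne _ hd]
  exact add_nonneg (orb_nonneg _ _ _ _) (orb_nonneg _ _ _ _)

theorem orb_c_add_le {w v : α} (hv : v ∉ MulAction.orbit (MulAction.stabilizer G D.o) w) {d : ZMod p}
    (hd : d ≠ 0) : D.c (orb G D.o w) d + D.c (orb G D.o v) d ≤ 2 := by
  rw [D.c_of_ne _ hd, D.c_of_ne _ hd]
  linarith [orb_disjoint (G := G) (y := D.e (0, 0)) (z := D.e (0, d)) hv,
    orb_disjoint (G := G) (y := D.e (1, 0)) (z := D.e (1, d)) hv]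

theorem orb_c_add_three {w v s : α} (hv : v ∉ MulAction.orbit (MulAction.stabilizer G D.o) w)
    (hs : s ∉ MulAction.orbit (MulAction.stabilizer G D.o) w)
    (hs' : s ∉ MulAction.orbit (MulAction.stabilizer G D.o) v) {d : ZMod p}
    (hd : d ≠ 0) : D.c (orb G D.o w) d + D.c (orb G D.o v) d + D.c (orb G D.o s) d ≤ 2 := by
  rw [D.c_of_ne _ hd, D.c_of_ne _ hd, D.c_of_ne _ hd]
  have key : ∀ y z : α, orb G D.o w y z + orb G D.o v y z + orb G D.o s y z ≤ 1 := by
    intro y z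
    have := orb_disjoint (G := G) (y := y) (z := z) hv
    have := orb_disjoint (G := G) (y := y) (z := z) hs
    have := orb_disjoint (G := G) (y := y) (z := z) hs'
    rcases orb_cases (G := G) D.o w y z with ⟨h, _⟩ | ⟨h, _⟩ <;>
      rcases orb_cases (G := G) D.o v y z with ⟨h', _⟩ | ⟨h', _⟩ <;>
      rcases orb_cases (G := G) D.o s y z with ⟨h'', _⟩ | ⟨h'', _⟩ <;> omega
  linarith [key (D.e (0, 0)) (D.e (0, d)), key (D.e (1, 0)) (D.e (1, d))]

theorem orb_K [MulAction.IsPretransitive G α] (w : α) :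
    D.K (orb G D.o w) = (Nat.card (MulAction.orbit (MulAction.stabilizer G D.o) w) : ℤ) := by
  classical
  rw [K, Finset.sum_congr rfl fun z _ => show orb G D.o w D.o z =
      if z ∈ MulAction.orbit (MulAction.stabilizer G D.o) w then 1 else 0 by
    split_ifs with h
    · exact orb_one ((orb_base _ _ _).2 h)
    · exact orb_zero fun e => h ((orb_base _ _ _).1 e)]
  rw [Finset.sum_boole, Nat.card_eq_fintype_card, Fintype.card_subtype]

theorem orb_diag {w : α} (hw : w ≠ D.o) (y : α) : orb G D.o w y y = 0 :=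
  orb_zero fun ⟨g, h1, h2⟩ => hw (smul_left_cancel g (h2.trans h1.symm))

theorem orb_c_zero {w : α} (hw : w ≠ D.o) : D.c (orb G D.o w) 0 = -D.a (orb G D.o w) := by
  rw [c, if_pos rfl, blk, blk, D.orb_diag hw, D.orb_diag hw]
  ring

theorem two_pretransitive_of_one [MulAction.IsPretransitive G α] {w : α}
    (h : ∀ v, v ≠ D.o → v ∈ MulAction.orbit (MulAction.stabilizer G D.o) w) :
    MulAction.IsMultiplyPretransitive G α 2 := by
  rw [MulAction.is_two_pretransitive_iff]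
  intro a b c d hab hcd
  obtain ⟨g₁, hg₁⟩ := MulAction.exists_smul_eq G a D.o
  obtain ⟨g₂, hg₂⟩ := MulAction.exists_smul_eq G c D.o
  obtain ⟨k, hk⟩ := h (g₁ • b) fun e => hab (smul_left_cancel g₁ (hg₁.trans e.symm))
  obtain ⟨m, hm⟩ := h (g₂ • d) fun e => hcd (smul_left_cancel g₂ (hg₂.trans e.symm))
  dsimp only at hk hm
  refine ⟨g₂⁻¹ * (m : G) * (k : G)⁻¹ * g₁, ?_, ?_⟩
  · rw [mul_smul, hg₁, mul_smul, inv_smul_eq_iff.2 k.2.symm, mul_smul, show (m : G) • D.o = D.o from m.2,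
      inv_smul_eq_iff]
    exact hg₂.symm
  · rw [mul_smul, mul_smul, ← hk, show (k : G)⁻¹ • k • w = w from inv_smul_smul (k : G) w, mul_smul,
      inv_smul_eq_iff]
    exact hm

variable [MulAction.IsPreprimitive G α] [FaithfulSMul G α]

theorem two_pretransitive_of_allRows (h : D.AllRows) : MulAction.IsMultiplyPretransitive G α 2 := by
  refine D.two_pretransitive_of_one (w := D.e (0, 1)) fun z hz => ?_
  obtain ⟨w, hw⟩ : ∃ w, w = D.e (0, 1) := ⟨_, rfl⟩
  have hwo : w ≠ D.o := fun e =>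
    one_ne_zero (congrArg Prod.snd (D.e.injective (hw.symm.trans e)))
  rw [← hw]
  by_contra hzw
  have hne : z ≠ w := fun e => hzw (e ▸ MulAction.mem_orbit_self _)
  let v : α → ℂ := fun y => (if y = w then 1 else 0) - if y = z then 1 else 0
  have hv : ∑ y, v y = 0 := by simp [v, Finset.sum_sub_distrib]
  have hop := congrFun ((D.mem_of_allRows h hv).2 _ (inv_orb D.o w)) D.o
  rw [op_apply, Pi.smul_apply, smul_eq_mul] at hop
  simp only [v, mul_sub, mul_ite, mul_one, mul_zero, Finset.sum_sub_distrib, Finset.sum_ite_eq',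
    Finset.mem_univ, if_true, hwo.symm, hz.symm, if_false, sub_zero] at hop
  rw [orb_one ((orb_base _ _ _).2 (MulAction.mem_orbit_self w)), orb_zero fun e => hzw ((orb_base _ _ _).1 e)]
    at hop
  norm_num at hop

/-- the equation for one suborbit -/
theorem orbit_equation (L : D.Line) (hp2 : p ≠ 2) {ν : (ZMod p)ˣ} {w : α} (hw : w ≠ D.o)
    (hν : ∀ φ : ℤ → ℤ, ∑ d ∈ Finset.univ.erase 0, φ (D.c (orb G D.o w) d) =
      ((p / 2 : ℕ) : ℤ) * (φ (D.c (orb G D.o w) 1) + φ (D.c (orb G D.o w) ν))) :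
    ∃ x y a : ℤ, x = D.c (orb G D.o w) 1 ∧ y = D.c (orb G D.o w) ν ∧ a = D.a (orb G D.o w) ∧
      ((p / 2 : ℕ) : ℤ) * (x + y) = Nat.card (MulAction.orbit (MulAction.stabilizer G D.o) w) + a ∧
      ((p / 2 : ℕ) : ℤ) * (x ^ 2 + y ^ 2) =
        2 * Nat.card (MulAction.orbit (MulAction.stabilizer G D.o) w) - 2 * a ^ 2 := by
  classical
  obtain ⟨A, hA⟩ : ∃ A, A = orb G D.o w := ⟨_, rfl⟩
  have hAi : Inv G A := hA ▸ inv_orb _ _
  refine ⟨_, _, _, rfl, rfl, rfl, ?_, ?_⟩
  · have e := hν id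
    simp only [id] at e
    rw [← e]
    have h := D.sum_c (inv_orb (G := G) D.o w)
    rw [← Finset.add_sum_erase _ _ (Finset.mem_univ (0 : ZMod p)), D.orb_c_zero hw, D.orb_K] at h
    linarith
  · rw [← hν (fun t => t ^ 2)]
    have h := L.sum_sq (inv_orb (G := G) D.o w)
    rw [← Finset.add_sum_erase _ _ (Finset.mem_univ (0 : ZMod p)), D.orb_c_zero hw] at h
    have hsq : ∀ y, (orb G D.o w * (orb G D.o w)ᵀ) y y =
        (Nat.card (MulAction.orbit (MulAction.stabilizer G D.o) w) : ℤ) := by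
      intro y
      rw [← D.orb_K, ← D.row_sum (inv_orb (G := G) D.o w) y, Matrix.mul_apply]
      refine Finset.sum_congr rfl fun z _ => ?_
      rw [Matrix.transpose_apply]
      rcases orb_cases (G := G) D.o w y z with ⟨e, _⟩ | ⟨e, _⟩ <;> rw [e] <;> ring
    have ha : D.a (orb G D.o w * (orb G D.o w)ᵀ) = D.a (orb G D.o w) ^ 2 := by
      have := D.a_mul (inv_orb (G := G) D.o w) (inv_orb (G := G) D.o w).transpose
      rw [D.a_transpose (inv_orb (G := G) D.o w)] at this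
      rw [sq]
      exact_mod_cast this
    rw [show D.c (orb G D.o w * (orb G D.o w)ᵀ) 0 =
        2 * (Nat.card (MulAction.orbit (MulAction.stabilizer G D.o) w) : ℤ) - D.a (orb G D.o w) ^ 2 by
      rw [c, if_pos rfl, blk, blk, hsq, hsq, ha]; ring] at h
    linarith

/-- coefficients `(2, 0)` do not occur -/
theorem no_split (L : D.Line) {w v : α} (hw : w ≠ D.o)
    (hall : ∀ s, s ≠ D.o → s ∈ MulAction.orbit (MulAction.stabilizer G D.o) w ∨
      s ∈ MulAction.orbit (MulAction.stabilizer G D.o) v)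
    (hv : v ∉ MulAction.orbit (MulAction.stabilizer G D.o) w) {ν : (ZMod p)ˣ}
    (hne : D.c (orb G D.o w) 1 ≠ D.c (orb G D.o w) ν) : False := by
  classical
  obtain ⟨A, hA⟩ : ∃ A, A = orb G D.o w := ⟨_, rfl⟩
  have hAi : Inv G A := hA ▸ inv_orb _ _
  rw [← hA] at hne
  obtain ⟨M, hM⟩ : ∃ M, M = A * A := ⟨_, rfl⟩
  have hMi : Inv G M := hM ▸ hAi.mul hAi
  obtain ⟨γ, hγ⟩ : ∃ γ, γ = M D.o v := ⟨_, rfl⟩
  obtain ⟨β, hβ⟩ : ∃ β, β = M D.o w - γ := ⟨_, rfl⟩
  obtain ⟨al, hal⟩ : ∃ al, al = M D.o D.o - γ := ⟨_, rfl⟩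
  have hMe : ∀ y z, M y z = (if y = z then al else 0) + β * A y z + γ := by
    intro y z
    obtain ⟨g, rfl⟩ := MulAction.exists_smul_eq G D.o y
    obtain ⟨z', rfl⟩ : ∃ z', g • z' = z := ⟨g⁻¹ • z, smul_inv_smul g z⟩
    rw [hMi, hAi, hA]
    by_cases hz : z' = D.o
    · subst hz
      rw [if_pos rfl, D.orb_diag hw, hal]
      ring
    · rw [if_neg fun e => hz (smul_left_cancel g e).symm]
      rcases hall z' hz with h | h
      · rw [orb_one ((orb_base _ _ _).2 h), hβ]
        obtain ⟨k, hk1, hk2⟩ := (orb_base D.o w z').2 h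
        have := hMi k D.o w
        rw [hk1, hk2] at this
        rw [this]; ring
      · rw [orb_zero fun e => hv ?_]
        · obtain ⟨k, hk1, hk2⟩ := (orb_base D.o v z').2 h
          have := hMi k D.o v
          rw [hk1, hk2] at this
          rw [this, hγ]; ring
        · rw [← MulAction.orbit_eq_iff.2 ((orb_base D.o w z').1 e), MulAction.orbit_eq_iff.2 h]
          exact MulAction.mem_orbit_self v
  have hop : ∀ u : α → ℂ, ∑ y, u y = 0 → op A (op A u) = (al : ℂ) • u + (β : ℂ) • op A u := by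
    intro u hu
    rw [← op_mul, ← hM]
    funext y
    simp only [op_apply, Pi.add_apply, Pi.smul_apply, smul_eq_mul, hMe, Int.cast_add, Int.cast_mul,
      add_mul, Finset.sum_add_distrib, apply_ite (Int.cast : ℤ → ℂ), Int.cast_zero, ite_mul, zero_mul,
      Finset.sum_ite_eq, Finset.mem_univ, if_true, ← Finset.mul_sum, mul_assoc, hu, mul_zero, add_zero]
  have ha : (D.a A : ℂ) * D.a A = al + β * D.a A := by
    have h := hop D.f D.sum_f
    rw [D.op_f hAi, map_smul, D.op_f hAi, smul_smul, smul_smul, ← add_smul] at h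
    exact smul_left_injective ℂ D.f_ne_zero h
  have hb : ∀ t : ZMod p, t ≠ 0 → ev (D.c A) t * ev (D.c A) t = al + β * ev (D.c A) t := by
    intro t ht
    have h := hop (L.w t) (L.w_mem ht).1
    rw [L.op_w hAi ht, map_smul, L.op_w hAi ht, smul_smul, smul_smul, ← add_smul] at h
    exact smul_left_injective ℂ (L.w_ne ht) h
  have hab : ∀ t : ZMod p, t ≠ 0 → ev (D.c A) t ≠ (D.a A : ℂ) := by
    intro t ht h
    have h0 : ev (fun d : ZMod p => D.c A d - if d = 0 then D.a A else 0) t = 0 := by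
      rw [ev_sub, h, sub_eq_zero, ev, Finset.sum_eq_single 0]
      · simp
      · intro d _ hd; simp [hd]
      · exact fun e => absurd (Finset.mem_univ _) e
    have h1 := const_of_ev_eq_zero ht h0 1
    have h2 := const_of_ev_eq_zero ht h0 ν
    rw [← h2] at h1
    simp only [one_ne_zero, ν.ne_zero, if_false, sub_zero] at h1
    exact hne h1
  have hb12 : ev (D.c A) (ν : ZMod p) ≠ ev (D.c A) 1 := by
    intro h
    have h1 := shift_of_ev_eq h (ν : ZMod p)
    rw [Units.inv_mul] at h1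
    exact hne h1
  have h1 := hb 1 one_ne_zero
  have h2 := hb (ν : ZMod p) ν.ne_zero
  have e1 : ev (D.c A) 1 + D.a A = β := mul_left_cancel₀ (sub_ne_zero.2 (hab 1 one_ne_zero))
    (by linear_combination h1 - ha)
  have e2 : ev (D.c A) (ν : ZMod p) + D.a A = β := mul_left_cancel₀ (sub_ne_zero.2 (hab _ ν.ne_zero))
    (by linear_combination h2 - ha)
  exact hb12 (by linear_combination e2 - e1)

/-- arithmetic of one suborbit -/
theorem shape {h k x y a : ℤ} (hp : (2 * h + 1).natAbs.Prime) (hk : 2 ≤ k) (hx0 : 0 ≤ x) (hy0 : 0 ≤ y)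
    (hx2 : x ≤ 2) (hy2 : y ≤ 2) (e1 : h * (x + y) = k + a) (e2 : h * (x ^ 2 + y ^ 2) = 2 * k - 2 * a ^ 2) :
    (x = 1 ∧ y = 1 ∧ k = a + 2 * a ^ 2 ∧ h = a + a ^ 2) ∨ (x = 2 ∧ y = 2) ∨ (x = 2 ∧ y = 0) ∨ (x = 0 ∧ y = 2) ∨
      (x = 2 ∧ y = 1) ∨ (x = 1 ∧ y = 2) := by
  have hsq : ∀ b : ℤ, 2 * h + 1 ≠ b * b := by
    intro b hb
    rw [hb, Int.natAbs_mul] at hp
    exact Nat.not_prime_mul (fun e => by simp [e] at hp; exact Nat.not_prime_one hp)
      (fun e => by simp [e] at hp; exact Nat.not_prime_one hp) hp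
  rcases (show x = 0 ∨ x = 1 ∨ x = 2 by omega) with rfl | rfl | rfl <;>
    rcases (show y = 0 ∨ y = 1 ∨ y = 2 by omega) with rfl | rfl | rfl
  · have ha : a = -k := by linarith
    subst ha
    exfalso; nlinarith
  · exact absurd (show 2 * h + 1 = (2 * a + 1) * (2 * a + 1) by linarith) (hsq _)
  · simp
  · exact absurd (show 2 * h + 1 = (2 * a + 1) * (2 * a + 1) by linarith) (hsq _)
  · exact Or.inl ⟨rfl, rfl, by linarith, by linarith⟩
  · simp
  · simp
  · simp
  · simp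

/-- the two possibilities -/
theorem dichotomy (hp2 : p ≠ 2) (hsq : ¬ p ^ 2 ∣ Nat.card G) :
    MulAction.IsMultiplyPretransitive G α 2 ∨
      (Nat.card (MulAction.orbitRel.Quotient (MulAction.stabilizer G D.o) α) = 3 ∧
        ∃ n : ℕ, 0 < n ∧ p = 2 * n ^ 2 + 2 * n + 1 ∧ ∀ b : α, b ≠ D.o →
          Nat.card (MulAction.orbit (MulAction.stabilizer G D.o) b) = n * (2 * n + 1) ∨
            Nat.card (MulAction.orbit (MulAction.stabilizer G D.o) b) = (n + 1) * (2 * n + 1)) := by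
  classical
  by_cases hall : D.AllRows
  · exact Or.inl (D.two_pretransitive_of_allRows hall)
  obtain ⟨L⟩ := D.exists_line hall
  obtain ⟨ν, hν⟩ := L.exists_classes hp2 hsq
  have hp : p.Prime := Fact.out
  have hodd : p % 2 = 1 := hp.eq_two_or_odd.resolve_left hp2
  obtain ⟨h, hh⟩ : ∃ h : ℤ, h = ((p / 2 : ℕ) : ℤ) := ⟨_, rfl⟩
  have hph : (p : ℤ) = 2 * h + 1 := by rw [hh]; omega
  haveI : Nontrivial α := ⟨⟨D.e (0, 0), D.e (0, 1), D.e_ne one_ne_zero 0⟩⟩
  have hcard : Nat.card α = 2 * p := by rw [Nat.card_eq_fintype_card, D.card_space]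
  obtain ⟨cw, hcw⟩ : ∃ cw : α → ℤ × ℤ, cw = fun w => (D.c (orb G D.o w) 1, D.c (orb G D.o w) ν) := ⟨_, rfl⟩
  have key : ∀ w, w ≠ D.o → ((cw w).1 = 1 ∧ (cw w).2 = 1 ∧ ∃ a : ℤ,
      (Nat.card (MulAction.orbit (MulAction.stabilizer G D.o) w) : ℤ) = a + 2 * a ^ 2 ∧ h = a + a ^ 2) ∨
      ((cw w).1 = 2 ∧ (cw w).2 = 2) ∨ ((cw w).1 = 2 ∧ (cw w).2 = 0) ∨ ((cw w).1 = 0 ∧ (cw w).2 = 2) ∨
      ((cw w).1 = 2 ∧ (cw w).2 = 1) ∨ ((cw w).1 = 1 ∧ (cw w).2 = 2) := by
    intro w hw
    obtain ⟨x, y, a, hx, hy, -, e1, e2⟩ := D.orbit_equation L hp2 hw (hν _ (inv_orb D.o w)).2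
    have hk : 2 ≤ Nat.card (MulAction.orbit (MulAction.stabilizer G D.o) w) := by
      by_contra hlt
      have h1 : Nat.card (MulAction.orbit (MulAction.stabilizer G D.o) w) = 1 := by
        haveI : Nonempty (MulAction.orbit (MulAction.stabilizer G D.o) w) := ⟨⟨w, MulAction.mem_orbit_self w⟩⟩
        have := Nat.card_pos (α := MulAction.orbit (MulAction.stabilizer G D.o) w)
        omega
      refine hw (eq_of_fixed_even (G := G) (by rw [hcard]; exact dvd_mul_right 2 p)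
        (by rw [hcard]; have := hp.two_le; omega) fun g hg => ?_)
      haveI := (Nat.card_eq_one_iff_unique.1 h1).1
      exact congrArg Subtype.val (Subsingleton.elim
        (⟨g • w, ⟨g, hg⟩, rfl⟩ : MulAction.orbit (MulAction.stabilizer G D.o) w) ⟨w, MulAction.mem_orbit_self w⟩)
    have hub : ∀ d : ZMod p, d ≠ 0 → D.c (orb G D.o w) d ≤ 2 := by
      intro d hd
      rw [D.c_of_ne _ hd]
      rcases orb_cases (G := G) D.o w (D.e (0, 0)) (D.e (0, d)) with ⟨e, _⟩ | ⟨e, _⟩ <;>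
        rcases orb_cases (G := G) D.o w (D.e (1, 0)) (D.e (1, d)) with ⟨e', _⟩ | ⟨e', _⟩ <;> omega
    rw [hcw]
    rcases shape (h := h) (k := (Nat.card (MulAction.orbit (MulAction.stabilizer G D.o) w) : ℤ))
      (by rw [← hph, Int.natAbs_natCast]; exact hp) (by exact_mod_cast hk)
      (hx ▸ D.orb_c_nonneg w one_ne_zero) (hy ▸ D.orb_c_nonneg w ν.ne_zero)
      (hx ▸ hub 1 one_ne_zero) (hy ▸ hub ν ν.ne_zero) (hh ▸ e1) (hh ▸ e2)
      with ⟨r1, r2, r3, r4⟩ | ⟨r1, r2⟩ | ⟨r1, r2⟩ | ⟨r1, r2⟩ | ⟨r1, r2⟩ | ⟨r1, r2⟩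
    · exact Or.inl ⟨hx.symm.trans r1, hy.symm.trans r2, a, r3, r4⟩
    all_goals subst hx hy; simp [r1, r2]
  have two : ∀ w v, v ∉ MulAction.orbit (MulAction.stabilizer G D.o) w →
      (cw w).1 + (cw v).1 ≤ 2 ∧ (cw w).2 + (cw v).2 ≤ 2 := by
    intro w v hv
    rw [hcw]
    exact ⟨D.orb_c_add_le hv one_ne_zero, D.orb_c_add_le hv ν.ne_zero⟩
  have three : ∀ w v s, v ∉ MulAction.orbit (MulAction.stabilizer G D.o) w →
      s ∉ MulAction.orbit (MulAction.stabilizer G D.o) w → s ∉ MulAction.orbit (MulAction.stabilizer G D.o) v →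
      (cw w).1 + (cw v).1 + (cw s).1 ≤ 2 ∧ (cw w).2 + (cw v).2 + (cw s).2 ≤ 2 := by
    intro w v s h1 h2 h3
    rw [hcw]
    exact ⟨D.orb_c_add_three h1 h2 h3 one_ne_zero, D.orb_c_add_three h1 h2 h3 ν.ne_zero⟩
  obtain ⟨w, hw⟩ := exists_ne D.o
  by_cases hone : ∀ v, v ≠ D.o → v ∈ MulAction.orbit (MulAction.stabilizer G D.o) w
  · exact Or.inl (D.two_pretransitive_of_one hone)
  push Not at hone
  obtain ⟨v, hvo, hv⟩ := hone
  have htwo := two w v hv
  have hkw := key w hw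
  have hkv := key v hvo
  have hall2 : ∀ s, s ≠ D.o → s ∈ MulAction.orbit (MulAction.stabilizer G D.o) w ∨
      s ∈ MulAction.orbit (MulAction.stabilizer G D.o) v := by
    intro s hs
    by_contra hno
    push Not at hno
    have h3 := three w v s hv hno.1 hno.2
    rcases key s hs with ⟨_, _, _⟩ | _ | _ | _ | _ | _ <;>
      rcases hkw with ⟨_, _, _⟩ | _ | _ | _ | _ | _ <;>
      rcases hkv with ⟨_, _, _⟩ | _ | _ | _ | _ | _ <;> omega
  by_cases hsplit : (cw w).1 ≠ (cw w).2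
  · rw [hcw] at hsplit
    exact (D.no_split L hw hall2 hv hsplit).elim
  rw [not_not] at hsplit
  obtain ⟨a, hka, ha⟩ : ∃ a : ℤ,
      (Nat.card (MulAction.orbit (MulAction.stabilizer G D.o) w) : ℤ) = a + 2 * a ^ 2 ∧ h = a + a ^ 2 := by
    rcases hkw with ⟨_, _, e⟩ | _ | _ | _ | _ | _
    · exact e
    all_goals exfalso; rcases hkv with ⟨_, _, _⟩ | _ | _ | _ | _ | _ <;> omega
  obtain ⟨b, hkb, hb⟩ : ∃ b : ℤ,
      (Nat.card (MulAction.orbit (MulAction.stabilizer G D.o) v) : ℤ) = b + 2 * b ^ 2 ∧ h = b + b ^ 2 := by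
    rcases hkv with ⟨_, _, e⟩ | _ | _ | _ | _ | _
    · exact e
    all_goals exfalso; rcases hkw with ⟨_, _, _⟩ | _ | _ | _ | _ | _ <;> omega
  refine Or.inr ⟨?_, ?_⟩
  · obtain ⟨q, hq⟩ : ∃ q : Fin 3 → MulAction.orbitRel.Quotient (MulAction.stabilizer G D.o) α,
        q = ![Quotient.mk'' D.o, Quotient.mk'' w, Quotient.mk'' v] := ⟨_, rfl⟩
    have hfix : ∀ s, s ≠ D.o → s ∉ MulAction.orbit (MulAction.stabilizer G D.o) D.o := by
      rintro s hs ⟨g, hg⟩
      exact hs (hg.symm.trans g.2)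
    have hne : ∀ s s' : α, s' ∉ MulAction.orbit (MulAction.stabilizer G D.o) s →
        (Quotient.mk'' s : MulAction.orbitRel.Quotient (MulAction.stabilizer G D.o) α) ≠ Quotient.mk'' s' :=
      fun s s' hss e => hss (MulAction.orbitRel_apply.1 (Quotient.eq''.1 e.symm))
    rw [← Nat.card_eq_of_bijective q ⟨?_, ?_⟩, Nat.card_fin]
    · intro i j hij
      rw [hq] at hij
      have n1 := hne _ _ (hfix w hw)
      have n2 := hne _ _ (hfix v hvo)
      have n3 := hne _ _ hv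
      fin_cases i <;> fin_cases j <;> simp [n1, n2, n3, n1.symm, n2.symm, n3.symm] at hij <;> rfl
    · intro c
      induction c using Quotient.inductionOn' with
      | h s =>
        rw [hq]
        by_cases hs : s = D.o
        · exact ⟨0, by rw [hs]; rfl⟩
        rcases hall2 s hs with h' | h'
        · exact ⟨1, (Quotient.eq''.2 (MulAction.orbitRel_apply.2 h')).symm⟩
        · exact ⟨2, (Quotient.eq''.2 (MulAction.orbitRel_apply.2 h')).symm⟩
  · obtain ⟨n, hn, hhn⟩ : ∃ n : ℕ, 0 < n ∧ h = (n : ℤ) ^ 2 + n := by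
      rcases le_or_gt 0 a with h0 | h0
      · obtain ⟨n, rfl⟩ := Int.eq_ofNat_of_zero_le h0
        refine ⟨n, ?_, by rw [ha]; ring⟩
        rcases Nat.eq_zero_or_pos n with rfl | h'
        · exfalso; have := hp.two_le; simp at ha; omega
        · exact h'
      · obtain ⟨n, hn⟩ := Int.eq_ofNat_of_zero_le (show 0 ≤ -a - 1 by omega)
        have hn' : a = -(n : ℤ) - 1 := by omega
        subst hn'
        refine ⟨n, ?_, by rw [ha]; ring⟩
        rcases Nat.eq_zero_or_pos n with rfl | h'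
        · exfalso; have := hp.two_le; simp at ha; omega
        · exact h'
    have hpn : p = 2 * n ^ 2 + 2 * n + 1 := by zify; rw [hph, hhn]; ring
    refine ⟨n, hn, hpn, ?_⟩
    have hsol : ∀ c : ℤ, h = c + c ^ 2 → c + 2 * c ^ 2 = (n : ℤ) * (2 * n + 1) ∨
        c + 2 * c ^ 2 = ((n : ℤ) + 1) * (2 * n + 1) := by
      intro c hc
      have : (c - n) * (c + n + 1) = 0 := by linear_combination hhn - hc
      rcases mul_eq_zero.1 this with e | e
      · left; rw [show c = n by linarith]; ring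
      · right; rw [show c = -(n : ℤ) - 1 by linarith]; ring
    intro s hs
    rcases hall2 s hs with h' | h' <;> rw [MulAction.orbit_eq_iff.2 h']
    · rcases hsol a ha with e | e
      · left; zify; rw [hka, e]
      · right; zify; rw [hka, e]
    · rcases hsol b hb with e | e
      · left; zify; rw [hkb, e]
      · right; zify; rw [hkb, e]

end Coord

end CfsgLib.Perm.WielandtTwoP
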