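import Cfsg.Agent.Lib.Perm.WielandtTwoP.Spectrum
import Cfsg.Agent.Lib.Block.Cyclic.HalfBound

/-!
# At most two classes of second eigenvalues
-/

set_option autoImplicit false
set_option linter.all false

namespace CfsgLib.Perm.WielandtTwoP

open Finset Matrix Module
open scoped Matrix

universe u

variable {p : ℕ} [Fact p.Prime] {G : Type u} [Group G] [Finite G] {α : Type*} [MulAction G α] [Fintype α]
  [DecidableEq α] [MulAction.IsPreprimitive G α] [FaithfulSMul G α]

theorem pm_mul (g h : G) (v : α → ℂ) : pm (g * h) v = pm g (pm h v) := by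
  funext y; rw [pm_apply, pm_apply, pm_apply, _root_.mul_inv_rev, mul_smul]

theorem pm_one (v : α → ℂ) : pm (1 : G) v = v := by
  funext y; rw [pm_apply, inv_one, one_smul]

namespace Coord

variable (D : Coord p G α)

include D in
theorem card_space : Fintype.card α = 2 * p := by
  rw [← Fintype.card_congr D.e, Fintype.card_prod, Fintype.card_fin, ZMod.card]

theorem orderOf_x : orderOf D.x = p := by
  refine orderOf_eq_prime (FaithfulSMul.eq_of_smul_eq_smul (α := α) fun y => ?_) fun h => ?_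
  · obtain ⟨⟨i, j⟩, rfl⟩ := D.e.surjective y
    rw [D.pow_smul, ZMod.natCast_self, add_zero, one_smul]
  · have := D.hx 0 0
    rw [h, one_smul, zero_add] at this
    exact zero_ne_one (congrArg Prod.snd (D.e.injective this))

/-- multipliers preserving all coefficient functions -/
def stab : Subgroup (ZMod p)ˣ where
  carrier := {r | ∀ A, Inv G A → ∀ d, D.c A ((r : ZMod p) * d) = D.c A d}
  mul_mem' := fun {r s} hr hs A hA d => by rw [Units.val_mul, mul_assoc, hr A hA, hs A hA]
  one_mem' := fun A hA d => by rw [Units.val_one, one_mul]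
  inv_mem' := fun {r} hr A hA d => by
    rw [← hr A hA ((r⁻¹ : (ZMod p)ˣ) * d), ← mul_assoc, Units.mul_inv, one_mul]

/-- equal eigenvalues come from equal coefficient functions -/
theorem shift_of_ev_eq {c : ZMod p → ℤ} {r : (ZMod p)ˣ} (h : ev c r = ev c 1) (d : ZMod p) :
    c ((r⁻¹ : (ZMod p)ˣ) * d) = c d := by
  have h1 : ev (fun d : ZMod p => c (((r⁻¹ : (ZMod p)ˣ) : ZMod p) * d) - c d) 1 = 0 := by
    rw [ev_sub, sub_eq_zero, ← h]
    refine Fintype.sum_equiv (Equiv.mulLeft₀ ((r⁻¹ : (ZMod p)ˣ) : ZMod p) (Units.ne_zero _)) _ _ fun d => ?_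
    rw [Equiv.mulLeft₀_apply, one_mul, ← mul_assoc, Units.mul_inv, one_mul]
  have := const_of_ev_eq_zero one_ne_zero h1 d
  rw [mul_zero, sub_self, sub_eq_zero] at this
  exact this

namespace Line

variable {D} (L : D.Line)

/-- the eigenspace of the second eigenvalue at `1` -/
noncomputable def X : Submodule ℂ (α → ℂ) where
  carrier := {v | v ∈ D.W ∧ ∀ A, Inv G A → op A v = ev (D.c A) 1 • v}
  add_mem' := by
    rintro v w ⟨hv, hv'⟩ ⟨hw, hw'⟩
    exact ⟨add_mem hv hw, fun A hA => by rw [map_add, hv' A hA, hw' A hA, smul_add]⟩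
  zero_mem' := ⟨zero_mem _, fun A _ => by simp⟩
  smul_mem' := by
    rintro c v ⟨hv, hv'⟩
    exact ⟨D.W.smul_mem c hv, fun A hA => by rw [map_smul, hv' A hA, smul_comm]⟩

include L

theorem X_pm (g : G) (v : α → ℂ) (hv : v ∈ X (D := D)) : pm g v ∈ X (D := D) :=
  ⟨D.W_pm g v hv.1, fun A hA => by rw [op_pm hA, hv.2 A hA, map_smul]⟩

theorem w_one_mem : L.w 1 ∈ X (D := D) :=
  ⟨L.w_mem one_ne_zero, fun A hA => L.op_w hA one_ne_zero⟩

theorem finrank_X : finrank ℂ (X (D := D)) ≤ Nat.card D.stab := by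
  classical
  haveI : Fintype D.stab := Fintype.ofFinite _
  have hle : X (D := D) ≤ Submodule.span ℂ (Set.range fun r : D.stab => L.w ((r : (ZMod p)ˣ) : ZMod p)) := by
    intro v hv
    refine D.mem_of_comp_mem fun t => ?_
    have hmem := D.comp_mem (L.X_pm) hv t
    rcases eq_or_ne t 0 with rfl | ht
    · rw [D.comp_zero_W hv.1]; exact zero_mem _
    obtain ⟨m, hm⟩ : ∃ m, D.comp t v = D.u t m := ⟨_, rfl⟩
    rw [hm] at hmem ⊢
    obtain ⟨b, hb⟩ := L.eq_smul_w ht hmem.1
    rcases eq_or_ne b 0 with rfl | hb0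
    · rw [hb, zero_smul]; exact zero_mem _
    have hev : ∀ A, Inv G A → ev (D.c A) (Units.mk0 t ht : ZMod p) = ev (D.c A) 1 := by
      intro A hA
      have h := hmem.2 A hA
      rw [hb, map_smul, L.op_w hA ht, smul_smul, smul_smul] at h
      have h2 := smul_left_injective ℂ (L.w_ne ht) h
      rw [mul_comm (ev (D.c A) 1)] at h2
      exact mul_left_cancel₀ hb0 h2
    have hr : (Units.mk0 t ht)⁻¹ ∈ D.stab := fun A hA d => shift_of_ev_eq (hev A hA) d
    rw [hb]
    exact Submodule.smul_mem _ _ (Submodule.subset_span ⟨⟨_, (inv_mem_iff).1 hr⟩, rfl⟩)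
  refine (Submodule.finrank_mono hle).trans ?_
  rw [Nat.card_eq_fintype_card]
  exact finrank_range_le_card _

/-- the representation on this eigenspace -/
noncomputable def rep : Representation ℂ G (X (D := D)) where
  toFun g := (pm g).restrict fun v hv => L.X_pm g v hv
  map_one' := LinearMap.ext fun v => Subtype.ext (pm_one v.1)
  map_mul' g h := LinearMap.ext fun v => Subtype.ext (pm_mul g h v.1)

/-- at most two classes -/
theorem index_le_two (hsq : ¬ p ^ 2 ∣ Nat.card G) : D.stab.index ≤ 2 := by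
  classical
  have hp : p.Prime := Fact.out
  by_contra hlt
  haveI : Fintype G := Fintype.ofFinite _
  obtain ⟨χ, hχ⟩ : ∃ χ, χ = (L.rep).character := ⟨_, rfl⟩
  have hone : χ 1 = (finrank ℂ (X (D := D)) : ℂ) := by rw [hχ, Representation.char_one]
  have hdeg : 2 * Cfsg.charDegree χ + 1 < p := by
    have h1 := D.stab.card_mul_index
    rw [Nat.card_eq_fintype_card (α := (ZMod p)ˣ), ZMod.card_units] at h1
    have h2 := L.finrank_X
    rw [Cfsg.charDegree, hone, Complex.natCast_re, Nat.floor_natCast]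
    have h3 : 3 * Nat.card D.stab ≤ p - 1 := by
      calc 3 * Nat.card D.stab ≤ D.stab.index * Nat.card D.stab := Nat.mul_le_mul_right _ (by omega)
        _ = p - 1 := by rw [mul_comm, h1]
    have h4 : 0 < Nat.card D.stab := Nat.card_pos
    omega
  have hx := D.orderOf_x
  have hQ : Nat.card (Subgroup.zpowers D.x) = p := by rw [Nat.card_zpowers, hx]
  have hfaith : ∀ g : G, χ g = χ 1 → g = 1 := by
    intro g hg
    rw [hχ, Representation.char_one, CfsgLib.Char.char_eq_degree_iff] at hg
    by_contra hg1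
    obtain ⟨N, hN⟩ : ∃ N : Subgroup G, N = L.rep.ker := ⟨_, rfl⟩
    haveI : N.Normal := hN ▸ MonoidHom.normal_ker _
    have hgN : g ∈ N := by rw [hN, MonoidHom.mem_ker, hg]; rfl
    have hfix : MulAction.fixedPoints N α ≠ Set.univ := by
      intro h
      refine hg1 (FaithfulSMul.eq_of_smul_eq_smul (α := α) fun y => ?_)
      have := (h ▸ Set.mem_univ y : y ∈ MulAction.fixedPoints N α) ⟨g, hgN⟩
      rw [one_smul]; exact this
    haveI := MulAction.IsQuasiPreprimitive.isPretransitive_of_normal (G := G) (X := α) (N := N) hfix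
    have hpN : p ∣ Nat.card N := by
      haveI : Fintype N := Fintype.ofFinite _
      have h := MulAction.card_orbit_mul_card_stabilizer_eq_card_group N D.o
      rw [← Nat.card_eq_fintype_card, ← Nat.card_eq_fintype_card, ← Nat.card_eq_fintype_card,
        MulAction.orbit_eq_univ, Nat.card_univ, Nat.card_eq_fintype_card (α := α), D.card_space] at h
      rw [← h]
      exact Dvd.dvd.mul_right (dvd_mul_left _ _) _
    obtain ⟨y, hy⟩ := exists_prime_orderOf_dvd_card' (G := N) p hpN
    have hxN : D.x ∈ N := by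
      have hS : ∀ Q : Subgroup G, Nat.card Q = p → ∃ S : Sylow p G, (S : Subgroup G) = Q := by
        intro Q hQc
        obtain ⟨S, hS⟩ := (IsPGroup.of_card (n := 1) (hQc.trans (pow_one p).symm)).exists_le_sylow
        refine ⟨S, (Subgroup.eq_of_le_of_card_ge hS ?_).symm⟩
        obtain ⟨k, hk⟩ := S.isPGroup'.exists_card_eq
        have hk1 : k ≤ 1 := by
          by_contra hk2
          exact hsq ((pow_dvd_pow p (by omega : 2 ≤ k)).trans (hk ▸ Subgroup.card_subgroup_dvd_card _))
        rw [hQc, hk]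
        calc p ^ k ≤ p ^ 1 := Nat.pow_le_pow_right hp.pos hk1
          _ = p := pow_one p
      obtain ⟨S, hSx⟩ := hS _ hQ
      obtain ⟨T, hTy⟩ := hS (Subgroup.zpowers (y : G)) (by rw [Nat.card_zpowers, Subgroup.orderOf_coe, hy])
      obtain ⟨k, hk⟩ := MulAction.exists_smul_eq G T S
      have hmem : D.x ∈ (S : Subgroup G) := hSx ▸ Subgroup.mem_zpowers _
      rw [← hk, Sylow.coe_subgroup_smul, Subgroup.mem_pointwise_smul_iff_inv_smul_mem, hTy] at hmem
      have hmem' := Subgroup.zpowers_le.2 y.2 hmem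
      rw [← map_inv, MulAut.smul_def, MulAut.conj_apply, inv_inv] at hmem'
      have h := (inferInstance : N.Normal).conj_mem _ hmem' k
      rwa [show k * (k⁻¹ * D.x * k) * k⁻¹ = D.x by group] at h
    have hw := LinearMap.congr_fun (hN ▸ hxN : D.x ∈ L.rep.ker) ⟨_, L.w_one_mem⟩
    have hw' : pm D.x (L.w 1) = L.w 1 := congrArg Subtype.val hw
    rw [w, D.eigen_shift, ← w] at hw'
    have hchi : chi p (-(1 : ZMod p)) = 1 :=
      smul_left_injective ℂ (L.w_ne one_ne_zero) (hw'.trans (one_smul ℂ _).symm)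
    exact chi_ne_one (neg_ne_zero.2 one_ne_zero) hchi
  obtain ⟨M, hM⟩ := CfsgLib.Block.exists_pModular hp
  haveI := hM.2.1
  have hnormal := CfsgLib.Block.Cyclic.normal_of_degree_lt_half hM _ G rfl hsq χ
    (hχ ▸ CfsgLib.Char.isCharacter_character _) hfaith hdeg (Subgroup.zpowers D.x) hQ
  haveI := hnormal
  have hfix : MulAction.fixedPoints (Subgroup.zpowers D.x) α ≠ Set.univ := by
    intro h
    have h1 := (h ▸ Set.mem_univ _ : D.o ∈ MulAction.fixedPoints (Subgroup.zpowers D.x) α) ⟨D.x, Subgroup.mem_zpowers _⟩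
    have h2 : D.x • D.o = D.o := h1
    rw [o, D.hx, zero_add] at h2
    exact zero_ne_one (congrArg Prod.snd (D.e.injective h2.symm))
  haveI := MulAction.IsQuasiPreprimitive.isPretransitive_of_normal (G := G) (X := α)
    (N := Subgroup.zpowers D.x) hfix
  have h := Nat.card_le_card_of_surjective (fun q : Subgroup.zpowers D.x => q • D.o)
    (fun y => MulAction.exists_smul_eq _ D.o y)
  rw [hQ, Nat.card_eq_fintype_card, D.card_space] at h
  have := hp.pos
  omega

/-- the two values of a coefficient function away from zero -/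
theorem exists_classes (hp2 : p ≠ 2) (hsq : ¬ p ^ 2 ∣ Nat.card G) : ∃ ν : (ZMod p)ˣ, ∀ A, Inv G A →
    (∀ d : ZMod p, d ≠ 0 → D.c A d = D.c A 1 ∨ D.c A d = D.c A ν) ∧
      ∀ φ : ℤ → ℤ, ∑ d ∈ Finset.univ.erase 0, φ (D.c A d) = ((p / 2 : ℕ) : ℤ) * (φ (D.c A 1) + φ (D.c A ν)) := by
  classical
  have hp : p.Prime := Fact.out
  have hodd : p % 2 = 1 := hp.eq_two_or_odd.resolve_left hp2
  have hunits : ∀ (φ : ZMod p → ℤ), ∑ d ∈ Finset.univ.erase 0, φ d = ∑ r : (ZMod p)ˣ, φ r := by
    intro φ
    refine Finset.sum_bij' (fun d hd => Units.mk0 d (Finset.ne_of_mem_erase hd))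
      (fun r _ => (r : ZMod p)) (fun _ _ => Finset.mem_univ _)
      (fun r _ => Finset.mem_erase.2 ⟨r.ne_zero, Finset.mem_univ _⟩) (fun _ _ => rfl)
      (fun r _ => Units.ext rfl) (fun _ _ => rfl)
  have hin : ∀ A, Inv G A → ∀ r : (ZMod p)ˣ, r ∈ D.stab → D.c A r = D.c A 1 := by
    intro A hA r hr
    rw [← hr A hA 1, mul_one]
  have hi := L.index_le_two hsq
  have hi0 : D.stab.index ≠ 0 := Subgroup.index_ne_zero_of_finite
  have hcard : Fintype.card (ZMod p)ˣ = p - 1 := ZMod.card_units p
  obtain h1 | h2 : D.stab.index = 1 ∨ D.stab.index = 2 := by omega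
  · refine ⟨1, fun A hA => ⟨fun d hd => Or.inl ?_, fun φ => ?_⟩⟩
    · exact hin A hA (Units.mk0 d hd) (by rw [Subgroup.index_eq_one.1 h1]; exact Subgroup.mem_top _)
    · rw [hunits (fun d => φ (D.c A d)), Finset.sum_congr rfl fun r _ => by
        rw [hin A hA r (by rw [Subgroup.index_eq_one.1 h1]; exact Subgroup.mem_top _)]]
      rw [Finset.sum_const, Finset.card_univ, hcard, nsmul_eq_mul, Units.val_one]
      rw [show p - 1 = 2 * (p / 2) by omega]
      push_cast
      ring
  · obtain ⟨ν, hν⟩ : ∃ ν, ν ∉ D.stab := by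
      by_contra h
      push Not at h
      rw [(Subgroup.eq_top_iff' _).2 h, Subgroup.index_top] at h2
      omega
    have hout : ∀ A, Inv G A → ∀ r : (ZMod p)ˣ, r ∉ D.stab → D.c A r = D.c A ν := by
      intro A hA r hr
      have hm : r * ν⁻¹ ∈ D.stab := by
        rw [Subgroup.mul_mem_iff_of_index_two h2, inv_mem_iff]
        exact iff_of_false hr hν
      rw [← hm A hA ν, Units.val_mul, mul_assoc, Units.inv_mul, mul_one]
    refine ⟨ν, fun A hA => ⟨fun d hd => ?_, fun φ => ?_⟩⟩
    · by_cases hr : Units.mk0 d hd ∈ D.stab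
      · exact Or.inl (hin A hA _ hr)
      · exact Or.inr (hout A hA _ hr)
    · rw [hunits (fun d => φ (D.c A d)),
        ← Finset.sum_filter_add_sum_filter_not Finset.univ (fun r => r ∈ D.stab),
        Finset.sum_congr rfl fun r hr => by rw [hin A hA r (Finset.mem_filter.1 hr).2],
        Finset.sum_congr (s₁ := Finset.univ.filter fun r => r ∉ D.stab) rfl
          fun r hr => by rw [hout A hA r (Finset.mem_filter.1 hr).2],
        Finset.sum_const, Finset.sum_const]
      have e1 : (Finset.univ.filter fun r : (ZMod p)ˣ => r ∈ D.stab).card = Nat.card D.stab := by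
        rw [Nat.card_eq_fintype_card, Fintype.card_subtype]
      have e2 := Finset.card_filter_add_card_filter_not (s := (Finset.univ : Finset (ZMod p)ˣ))
        (fun r => r ∈ D.stab)
      have e3 := D.stab.card_mul_index
      rw [h2, Nat.card_eq_fintype_card (α := (ZMod p)ˣ), hcard] at e3
      rw [Finset.card_univ, hcard, e1] at e2
      have e4 : Nat.card D.stab = p / 2 := by omega
      have e5 : (Finset.univ.filter fun r : (ZMod p)ˣ => r ∉ D.stab).card = p / 2 := by omega
      rw [e1, e4, e5, nsmul_eq_mul, nsmul_eq_mul]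
      ring

end Line

end Coord

end CfsgLib.Perm.WielandtTwoP
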