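import Mathlib.Analysis.SpecialFunctions.Complex.CircleAddChar
import Mathlib.RingTheory.Polynomial.Cyclotomic.Roots
import Mathlib.NumberTheory.LegendreSymbol.AddCharacter

/-!
# Integral combinations of the `p`-th roots of unity

A relation `∑ c(d) ζ^(t d) = 0` with integers forces `c` to be constant, so it does not depend on `t ≠ 0`.
-/

set_option autoImplicit false
set_option linter.all false

namespace CfsgLib.Perm.WielandtTwoP

open Finset Polynomial

variable {p : ℕ} [Fact p.Prime]

/-- the standard additive character -/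
noncomputable abbrev chi (p : ℕ) [NeZero p] : AddChar (ZMod p) ℂ := ZMod.stdAddChar

/-- evaluation of an integral combination -/
noncomputable def ev (c : ZMod p → ℤ) (t : ZMod p) : ℂ := ∑ d, (c d : ℂ) * chi p (t * d)

theorem chi_sum (b : ZMod p) : ∑ y, chi p (y * b) = if b = 0 then (p : ℂ) else 0 := by
  classical
  rw [AddChar.sum_mulShift b (ZMod.isPrimitive_stdAddChar p)]
  split_ifs <;> simp [ZMod.card]

theorem chi_ne_one {t : ZMod p} (ht : t ≠ 0) : chi p t ≠ 1 := by
  intro h
  refine ht (ZMod.injective_stdAddChar (N := p) ?_)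
  rw [AddChar.map_zero_eq_one]
  exact h

theorem ev_zero (c : ZMod p → ℤ) : ev c 0 = ((∑ d, c d : ℤ) : ℂ) := by
  simp only [ev, zero_mul, AddChar.map_zero_eq_one, mul_one, Int.cast_sum]

theorem ev_const {c : ZMod p → ℤ} (h : ∀ d, c d = c 0) {t : ZMod p} (ht : t ≠ 0) : ev c t = 0 := by
  simp only [ev, h]
  rw [← Finset.mul_sum]
  simp_rw [mul_comm t]
  rw [chi_sum, if_neg ht, mul_zero]

/-- a vanishing combination has constant coefficients -/
theorem const_of_ev_eq_zero {c : ZMod p → ℤ} {t : ZMod p} (ht : t ≠ 0) (h : ev c t = 0) :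
    ∀ d, c d = c 0 := by
  classical
  have hp : p.Prime := Fact.out
  obtain ⟨z, hz⟩ : ∃ z, z = chi p t := ⟨_, rfl⟩
  have hzp : z ^ p = 1 := by
    rw [hz, ← AddChar.map_nsmul_eq_pow, nsmul_eq_mul, ZMod.natCast_self, zero_mul, AddChar.map_zero_eq_one]
  have hord : orderOf z = p := orderOf_eq_prime hzp (by rw [hz]; exact chi_ne_one ht)
  have hprim : IsPrimitiveRoot z p := hord ▸ IsPrimitiveRoot.orderOf z
  have hval : ∀ d : ZMod p, chi p (t * d) = z ^ d.val := by
    intro d
    rw [hz, ← AddChar.map_nsmul_eq_pow, nsmul_eq_mul, ZMod.natCast_val, ZMod.cast_id, mul_comm]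
  obtain ⟨n, hn⟩ : ∃ n, p = n + 1 := ⟨p - 1, by have := hp.pos; omega⟩
  obtain ⟨C0, hC0⟩ : ∃ C0 : ℤ, C0 = c (n : ZMod p) := ⟨_, rfl⟩
  let R : ℚ[X] := ∑ i : Fin n, Polynomial.C ((c ((i : ℕ) : ZMod p) - C0 : ℤ) : ℚ) * X ^ (i : ℕ)
  have hR : Polynomial.aeval z R = 0 := by
    have h1 : ev c t - (C0 : ℂ) * ∑ d : ZMod p, chi p (t * d) = 0 := by
      simp_rw [mul_comm t]
      rw [chi_sum, if_neg ht, mul_zero, sub_zero, h]
    have h2 : ev c t - (C0 : ℂ) * ∑ d : ZMod p, chi p (t * d) =
        ∑ j ∈ Finset.range p, ((c (j : ZMod p) : ℂ) - C0) * z ^ j := by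
      rw [ev, Finset.mul_sum, ← Finset.sum_sub_distrib]
      refine Finset.sum_bij' (fun d _ => d.val) (fun j _ => (j : ZMod p)) ?_ ?_ ?_ ?_ ?_
      · exact fun d _ => Finset.mem_range.2 d.val_lt
      · exact fun _ _ => Finset.mem_univ _
      · exact fun d _ => ZMod.natCast_zmod_val d
      · exact fun j hj => ZMod.val_natCast_of_lt (Finset.mem_range.1 hj)
      · intro d _
        rw [ZMod.natCast_zmod_val, hval]
        ring
    rw [h2] at h1
    rw [show Finset.range p = Finset.range (n + 1) by rw [hn], Finset.sum_range_succ, ← hC0, sub_self,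
      zero_mul, add_zero, Finset.sum_range] at h1
    simp only [R, map_sum, map_mul, map_pow, Polynomial.aeval_X, Polynomial.aeval_C]
    simpa using h1
  have hR0 : R = 0 := by
    by_contra hne
    have hdeg : R.degree < (n : WithBot ℕ) := Polynomial.degree_sum_fin_lt _
    have hle := minpoly.degree_le_of_ne_zero ℚ z hne hR
    rw [← Polynomial.cyclotomic_eq_minpoly_rat hprim hp.pos, Polynomial.degree_cyclotomic,
      Nat.totient_prime hp, show p - 1 = n by omega] at hle
    exact absurd (hle.trans_lt hdeg) (lt_irrefl _)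
  have hco : ∀ i < n, c (i : ZMod p) = C0 := by
    intro i hi
    have h1 := congrArg (fun Q : ℚ[X] => Q.coeff i) hR0
    simp only [R, Polynomial.finsetSum_coeff, Polynomial.coeff_C_mul_X_pow, Polynomial.coeff_zero] at h1
    rw [Finset.sum_eq_single (⟨i, hi⟩ : Fin n)] at h1
    · rw [if_pos rfl, Int.cast_eq_zero, sub_eq_zero] at h1
      exact h1
    · intro j _ hj
      rw [if_neg fun e => hj (Fin.ext e.symm)]
    · exact fun hh => absurd (Finset.mem_univ _) hh
  have hall : ∀ d : ZMod p, c d = C0 := by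
    intro d
    rcases Nat.lt_or_ge d.val n with hd | hd
    · rw [← ZMod.natCast_zmod_val d]; exact hco _ hd
    · have : d.val = n := by have := d.val_lt; omega
      rw [← ZMod.natCast_zmod_val d, this, hC0]
  exact fun d => (hall d).trans (hall 0).symm

/-- the relations are the same at all non-zero arguments -/
theorem ev_eq_zero_congr {c : ZMod p → ℤ} {t s : ZMod p} (ht : t ≠ 0) (hs : s ≠ 0) (h : ev c t = 0) :
    ev c s = 0 :=
  ev_const (const_of_ev_eq_zero ht h) hs

/-- convolution -/
def conv (c c' : ZMod p → ℤ) (d : ZMod p) : ℤ := ∑ j, c j * c' (d - j)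

theorem ev_conv (c c' : ZMod p → ℤ) (t : ZMod p) : ev (conv c c') t = ev c t * ev c' t := by
  simp only [ev, conv, Int.cast_sum, Int.cast_mul, Finset.sum_mul]
  rw [Finset.sum_comm]
  refine Finset.sum_congr rfl fun j _ => ?_
  rw [Finset.mul_sum]
  refine Fintype.sum_equiv (Equiv.subRight j) _ _ fun d => ?_
  rw [Equiv.subRight_apply, show t * d = t * j + t * (d - j) by ring, AddChar.map_add_eq_mul]
  ring

theorem ev_sub (c c' : ZMod p → ℤ) (t : ZMod p) : ev (fun d => c d - c' d) t = ev c t - ev c' t := by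
  simp only [ev, ← Finset.sum_sub_distrib, Int.cast_sub, sub_mul]

theorem sum_conv (c c' : ZMod p → ℤ) : ∑ d, conv c c' d = (∑ d, c d) * ∑ d, c' d := by
  simp only [conv, Finset.sum_mul]
  rw [Finset.sum_comm]
  refine Finset.sum_congr rfl fun j _ => ?_
  rw [Finset.mul_sum]
  exact Fintype.sum_equiv (Equiv.subRight j) _ _ fun d => rfl

end CfsgLib.Perm.WielandtTwoP
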