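import Cfsg.Agent.Lib.Perm.WielandtTwoP.Cyclotomic
import Mathlib.GroupTheory.GroupAction.Primitive
import Mathlib.LinearAlgebra.Matrix.ToLin

/-!
# Invariant integer matrices of a group with a fixed-point-free element of order `p` on `2 p` points
-/

set_option autoImplicit false
set_option linter.all false

namespace CfsgLib.Perm.WielandtTwoP

open Finset Matrix
open scoped Matrix

/-- coordinates for a fixed-point-free element `x` of prime order `p` on `2 p` points -/
structure Coord (p : ℕ) (G : Type*) [Group G] (α : Type*) [MulAction G α] where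
  x : G
  e : Fin 2 × ZMod p ≃ α
  hx : ∀ i j, x • e (i, j) = e (i, j + 1)

variable {p : ℕ} [Fact p.Prime] {G : Type*} [Group G] {α : Type*} [MulAction G α] [Fintype α]
  [DecidableEq α]

/-- an invariant matrix -/
def Inv (G : Type*) [Group G] {α : Type*} [MulAction G α] (A : Matrix α α ℤ) : Prop :=
  ∀ (g : G) (y z : α), A (g • y) (g • z) = A y z

theorem Inv.mul {A B : Matrix α α ℤ} (hA : Inv G A) (hB : Inv G B) : Inv G (A * B) := fun g y z => by
  simp only [Matrix.mul_apply]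
  exact (Fintype.sum_equiv (MulAction.toPerm g) _ _ fun v => by simp [hA g, hB g]).symm

theorem Inv.transpose {A : Matrix α α ℤ} (hA : Inv G A) : Inv G Aᵀ := fun g y z => hA g z y

/-- the operator on functions -/
noncomputable def op (A : Matrix α α ℤ) : (α → ℂ) →ₗ[ℂ] (α → ℂ) :=
  Matrix.mulVecLin (A.map (Int.cast : ℤ → ℂ))

theorem op_apply (A : Matrix α α ℤ) (v : α → ℂ) (y : α) : op A v y = ∑ z, (A y z : ℂ) * v z := rfl

theorem op_mul (A B : Matrix α α ℤ) (v : α → ℂ) : op (A * B) v = op A (op B v) := by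
  show (A * B).map (Int.castRingHom ℂ) *ᵥ v = A.map (Int.castRingHom ℂ) *ᵥ (B.map (Int.castRingHom ℂ) *ᵥ v)
  rw [Matrix.map_mul, Matrix.mulVec_mulVec]

/-- the permutation action on functions -/
noncomputable def pm (g : G) : (α → ℂ) →ₗ[ℂ] (α → ℂ) := LinearMap.funLeft ℂ ℂ fun y => g⁻¹ • y

omit [Fintype α] [DecidableEq α] in
theorem pm_apply (g : G) (v : α → ℂ) (y : α) : pm g v y = v (g⁻¹ • y) := rfl

theorem op_pm {A : Matrix α α ℤ} (hA : Inv G A) (g : G) (v : α → ℂ) : op A (pm g v) = pm g (op A v) := by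
  funext y
  rw [pm_apply, op_apply, op_apply]
  refine Fintype.sum_equiv (MulAction.toPerm g⁻¹) _ _ fun z => ?_
  show (A y z : ℂ) * pm g v z = (A (g⁻¹ • y) (g⁻¹ • z) : ℂ) * v (g⁻¹ • z)
  rw [pm_apply, hA]

theorem sum_pm (g : G) (v : α → ℂ) : ∑ y, pm g v y = ∑ y, v y :=
  Fintype.sum_equiv (MulAction.toPerm g⁻¹) _ _ fun _ => rfl

/-- the bilinear pairing -/
noncomputable def pair (v w : α → ℂ) : ℂ := ∑ y, v y * w y

omit [DecidableEq α] in
theorem pair_pm (g : G) (v w : α → ℂ) : pair (pm g v) (pm g w) = pair v w :=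
  Fintype.sum_equiv (MulAction.toPerm g⁻¹) _ _ fun _ => rfl

theorem pair_op (A : Matrix α α ℤ) (v w : α → ℂ) : pair (op A v) w = pair v (op Aᵀ w) := by
  simp only [pair, op_apply, Finset.sum_mul, Finset.mul_sum, Matrix.transpose_apply]
  rw [Finset.sum_comm]
  exact Finset.sum_congr rfl fun y _ => Finset.sum_congr rfl fun z _ => by ring

namespace Coord

variable (D : Coord p G α)

theorem pow_smul (n : ℕ) (i : Fin 2) (j : ZMod p) : D.x ^ n • D.e (i, j) = D.e (i, j + n) := by
  induction n generalizing j with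
  | zero => simp
  | succ n ih =>
    rw [pow_succ, mul_smul, D.hx, ih]
    congr 2
    push_cast
    ring

/-- translation along the cycles -/
def sh (s : ZMod p) : G := D.x ^ s.val

theorem sh_smul (s : ZMod p) (i : Fin 2) (j : ZMod p) : D.sh s • D.e (i, j) = D.e (i, j + s) := by
  rw [sh, pow_smul, ZMod.natCast_zmod_val]

theorem sum_coord {M : Type*} [AddCommMonoid M] (φ : α → M) :
    ∑ y, φ y = ∑ i : Fin 2, ∑ j : ZMod p, φ (D.e (i, j)) := by
  rw [← Equiv.sum_comp D.e φ, Fintype.sum_prod_type]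

/-- the base point -/
def o : α := D.e (0, 0)

/-- the row sum -/
noncomputable def K (A : Matrix α α ℤ) : ℤ := ∑ z, A D.o z

/-- the coefficients of a block -/
def blk (A : Matrix α α ℤ) (i l : Fin 2) (d : ZMod p) : ℤ := A (D.e (i, 0)) (D.e (l, d))

theorem inv_blk {A : Matrix α α ℤ} (hA : Inv G A) (i l : Fin 2) (j d : ZMod p) :
    A (D.e (i, j)) (D.e (l, d)) = D.blk A i l (d - j) := by
  rw [blk, ← hA (D.sh j) (D.e (i, 0)) (D.e (l, d - j)), sh_smul, sh_smul, zero_add, sub_add_cancel]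

/-- the scalar on the vector separating the two cycles -/
noncomputable def a (A : Matrix α α ℤ) : ℤ := 2 * (∑ d, D.blk A 0 0 d) - D.K A

/-- the functions with eigenvalue `χ t` under the translations -/
noncomputable def u (t : ZMod p) : (Fin 2 → ℂ) →ₗ[ℂ] (α → ℂ) where
  toFun n y := n (D.e.symm y).1 * chi p (t * (D.e.symm y).2)
  map_add' n m := funext fun y => add_mul _ _ _
  map_smul' c n := funext fun y => mul_assoc _ _ _

theorem u_apply (t : ZMod p) (n : Fin 2 → ℂ) (i : Fin 2) (j : ZMod p) :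
    D.u t n (D.e (i, j)) = n i * chi p (t * j) := by
  show n (D.e.symm (D.e (i, j))).1 * chi p (t * (D.e.symm (D.e (i, j))).2) = _
  rw [Equiv.symm_apply_apply]

theorem ext_coord {v w : α → ℂ} (h : ∀ i j, v (D.e (i, j)) = w (D.e (i, j))) : v = w := by
  funext y
  obtain ⟨⟨i, j⟩, rfl⟩ := D.e.surjective y
  exact h i j

theorem u_injective (t : ZMod p) : Function.Injective (D.u t) := by
  intro n m h
  funext i
  have h' := congrFun h (D.e (i, 0))
  simpa [u_apply] using h'

theorem sum_u {t : ZMod p} (ht : t ≠ 0) (n : Fin 2 → ℂ) : ∑ y, D.u t n y = 0 := by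
  rw [D.sum_coord]
  simp only [u_apply, ← Finset.mul_sum]
  simp_rw [mul_comm t, chi_sum, if_neg ht, mul_zero]
  simp

theorem pair_u (t s : ZMod p) (n m : Fin 2 → ℂ) :
    pair (D.u t n) (D.u s m) = if t + s = 0 then (p : ℂ) * (n 0 * m 0 + n 1 * m 1) else 0 := by
  rw [pair, D.sum_coord]
  simp only [u_apply]
  have : ∀ i, ∑ j : ZMod p, n i * chi p (t * j) * (m i * chi p (s * j)) =
      n i * m i * (if t + s = 0 then (p : ℂ) else 0) := by
    intro i
    rw [← chi_sum, Finset.mul_sum]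
    refine Finset.sum_congr rfl fun j _ => ?_
    rw [show j * (t + s) = t * j + s * j by ring, AddChar.map_add_eq_mul]
    ring
  rw [Fin.sum_univ_two, this, this]
  split_ifs <;> ring

theorem op_u {A : Matrix α α ℤ} (hA : Inv G A) (t : ZMod p) (n : Fin 2 → ℂ) :
    op A (D.u t n) = D.u t (fun i => ∑ l, ev (D.blk A i l) t * n l) := by
  refine D.ext_coord fun i j => ?_
  rw [u_apply, op_apply, D.sum_coord, Finset.sum_mul]
  refine Finset.sum_congr rfl fun l _ => ?_
  rw [ev, Finset.sum_mul, Finset.sum_mul]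
  refine Fintype.sum_equiv (Equiv.subRight j) _ _ fun d => ?_
  rw [Equiv.subRight_apply, u_apply, D.inv_blk hA, show t * d = t * (d - j) + t * j by ring,
    AddChar.map_add_eq_mul]
  ring

/-- the component of `v` at `t` -/
noncomputable def comp (t : ZMod p) (v : α → ℂ) : α → ℂ :=
  D.u t fun i => ∑ j, v (D.e (i, j)) * chi p (-(t * j))

theorem sum_comp (v : α → ℂ) : ∑ t, D.comp t v = (p : ℂ) • v := by
  classical
  refine D.ext_coord fun i j => ?_
  simp only [Finset.sum_apply, comp, u_apply, Pi.smul_apply, smul_eq_mul, Finset.sum_mul]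
  rw [Finset.sum_comm, Finset.sum_eq_single j]
  · simp only [mul_assoc, ← AddChar.map_add_eq_mul, neg_add_cancel, AddChar.map_zero_eq_one, mul_one,
      Finset.sum_const, Finset.card_univ, ZMod.card, nsmul_eq_mul]
  · intro k _ hk
    simp only [mul_assoc, ← AddChar.map_add_eq_mul, ← Finset.mul_sum]
    simp_rw [show ∀ t : ZMod p, -(t * k) + t * j = t * (j - k) from fun t => by ring]
    rw [chi_sum, if_neg (sub_ne_zero.2 (Ne.symm hk)), mul_zero]
  · exact fun h => absurd (Finset.mem_univ _) h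

theorem comp_mem {S : Submodule ℂ (α → ℂ)} (hS : ∀ (g : G), ∀ v ∈ S, pm g v ∈ S) {v : α → ℂ}
    (hv : v ∈ S) (t : ZMod p) : D.comp t v ∈ S := by
  have e : D.comp t v = ∑ s : ZMod p, chi p (-(t * s)) • pm (D.sh s)⁻¹ v := by
    refine D.ext_coord fun i j => ?_
    simp only [comp, u_apply, Finset.sum_apply, Pi.smul_apply, smul_eq_mul, pm_apply, inv_inv, sh_smul,
      Finset.sum_mul]
    refine Fintype.sum_equiv (Equiv.subRight j) _ _ fun k => ?_
    rw [Equiv.subRight_apply, add_sub_cancel, show -(t * (k - j)) = -(t * k) + t * j by ring,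
      AddChar.map_add_eq_mul]
    ring
  rw [e]
  exact sum_mem fun s _ => S.smul_mem _ (hS _ v hv)

theorem mem_of_comp_mem {S : Submodule ℂ (α → ℂ)} {v : α → ℂ} (h : ∀ t, D.comp t v ∈ S) : v ∈ S := by
  have hp : (p : ℂ) ≠ 0 := Nat.cast_ne_zero.2 (Fact.out : p.Prime).ne_zero
  have h1 : (p : ℂ) • v ∈ S := D.sum_comp v ▸ sum_mem fun t _ => h t
  exact (S.smul_mem_iff hp).1 h1

theorem eigen_shift (t : ZMod p) (n : Fin 2 → ℂ) :
    pm D.x (D.u t n) = chi p (-t) • D.u t n := by
  refine D.ext_coord fun i j => ?_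
  rw [Pi.smul_apply, smul_eq_mul, pm_apply, show D.x⁻¹ • D.e (i, j) = D.e (i, j - 1) by
    rw [inv_smul_eq_iff, D.hx, sub_add_cancel], u_apply, u_apply,
    show t * (j - 1) = -t + t * j by ring, AddChar.map_add_eq_mul]
  ring

/-- the vector separating the two cycles -/
noncomputable def f : α → ℂ := D.u 0 ![1, -1]

theorem f_apply (i : Fin 2) (j : ZMod p) : D.f (D.e (i, j)) = ![1, -1] i := by
  rw [f, u_apply, zero_mul, AddChar.map_zero_eq_one, mul_one]

theorem sum_f : ∑ y, D.f y = 0 := by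
  rw [D.sum_coord]
  simp [f_apply, Fin.sum_univ_two]

theorem f_ne_zero : D.f ≠ 0 := fun h => by
  have := congrFun h (D.e (0, 0))
  simp [f_apply] at this

theorem comp_zero_of_sum {v : α → ℂ} (hv : ∑ y, v y = 0) : ∃ c : ℂ, D.comp 0 v = c • D.f := by
  refine ⟨∑ j, v (D.e (0, j)), D.ext_coord fun i j => ?_⟩
  rw [D.sum_coord, Fin.sum_univ_two] at hv
  rw [comp, u_apply, Pi.smul_apply, smul_eq_mul, f_apply]
  fin_cases i
  · simp
  · simp only [zero_mul, neg_zero, AddChar.map_zero_eq_one, mul_one, Fin.mk_one, Matrix.cons_val_one,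
      Matrix.cons_val_fin_one, mul_neg]
    linear_combination hv

variable [MulAction.IsPretransitive G α]

theorem row_sum {A : Matrix α α ℤ} (hA : Inv G A) (y : α) : ∑ z, A y z = D.K A := by
  obtain ⟨g, rfl⟩ := MulAction.exists_smul_eq G D.o y
  exact (Fintype.sum_equiv (MulAction.toPerm g) _ _ fun z => (hA g _ z).symm).symm

theorem K_transpose {A : Matrix α α ℤ} (hA : Inv G A) : D.K Aᵀ = D.K A := by
  have h1 : ∑ y, ∑ z, A y z = ∑ z, ∑ y, Aᵀ z y := by
    exact Finset.sum_comm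
  simp only [D.row_sum hA, D.row_sum hA.transpose, Finset.sum_const, Finset.card_univ, nsmul_eq_mul] at h1
  haveI : Nonempty α := ⟨D.o⟩
  exact (mul_left_cancel₀ (by exact_mod_cast Fintype.card_ne_zero) h1).symm

theorem col_sum {A : Matrix α α ℤ} (hA : Inv G A) (z : α) : ∑ y, A y z = D.K A :=
  (D.row_sum hA.transpose z).trans (D.K_transpose hA)

theorem blk_sum {A : Matrix α α ℤ} (hA : Inv G A) :
    ∑ d, D.blk A 0 1 d = D.K A - ∑ d, D.blk A 0 0 d ∧ ∑ d, D.blk A 1 0 d = D.K A - ∑ d, D.blk A 0 0 d ∧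
      ∑ d, D.blk A 1 1 d = ∑ d, D.blk A 0 0 d := by
  have r0 := D.row_sum hA (D.e (0, 0))
  have r1 := D.row_sum hA (D.e (1, 0))
  have c0 := D.col_sum hA (D.e (0, 0))
  rw [D.sum_coord, Fin.sum_univ_two] at r0 r1 c0
  have hneg : ∀ i : Fin 2, ∑ j, A (D.e (i, j)) (D.e (0, 0)) = ∑ d, D.blk A i 0 d := fun i =>
    Fintype.sum_equiv (Equiv.neg _) _ _ fun j => by rw [D.inv_blk hA, zero_sub]; rfl
  rw [hneg, hneg] at c0
  simp only [blk] at *
  exact ⟨by linarith, by linarith, by linarith⟩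

theorem a_transpose {A : Matrix α α ℤ} (hA : Inv G A) : D.a Aᵀ = D.a A := by
  rw [a, a, D.K_transpose hA]
  congr 2
  refine Fintype.sum_equiv (Equiv.neg _) _ _ fun d => ?_
  rw [Equiv.neg_apply, blk, blk, Matrix.transpose_apply, D.inv_blk hA, zero_sub]
  rfl

theorem sum_op {A : Matrix α α ℤ} (hA : Inv G A) (v : α → ℂ) :
    ∑ y, op A v y = (D.K A : ℂ) * ∑ y, v y := by
  simp only [op_apply]
  rw [Finset.sum_comm, Finset.mul_sum]
  refine Finset.sum_congr rfl fun z _ => ?_
  rw [← Finset.sum_mul, ← Int.cast_sum, D.col_sum hA]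

theorem op_f {A : Matrix α α ℤ} (hA : Inv G A) : op A D.f = (D.a A : ℂ) • D.f := by
  obtain ⟨h1, h2, h3⟩ := D.blk_sum hA
  rw [f, D.op_u hA, ← map_smul]
  congr 1
  funext i
  fin_cases i <;> simp [Fin.sum_univ_two, ev_zero, h1, h2, h3, a, -Int.cast_sum] <;> ring

end Coord

end CfsgLib.Perm.WielandtTwoP
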