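import Cfsg.Agent.Lib.Perm.WielandtTwoP.Setup

/-!
# The common eigenspace of the vector separating the two cycles
-/

set_option autoImplicit false
set_option linter.all false

namespace CfsgLib.Perm.WielandtTwoP

open Finset Matrix
open scoped Matrix

variable {p : ℕ} [Fact p.Prime] {G : Type*} [Group G] {α : Type*} [MulAction G α] [Fintype α]
  [DecidableEq α] [MulAction.IsPretransitive G α]

namespace Coord

variable (D : Coord p G α)

/-- the sum-zero functions with the eigenvalues of `f` -/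
noncomputable def Va : Submodule ℂ (α → ℂ) where
  carrier := {v | ∑ y, v y = 0 ∧ ∀ A, Inv G A → op A v = (D.a A : ℂ) • v}
  add_mem' := by
    rintro v w ⟨hv, hv'⟩ ⟨hw, hw'⟩
    exact ⟨by simp [Finset.sum_add_distrib, hv, hw], fun A hA => by rw [map_add, hv' A hA, hw' A hA, smul_add]⟩
  zero_mem' := ⟨by simp, fun A _ => by simp⟩
  smul_mem' := by
    rintro c v ⟨hv, hv'⟩
    exact ⟨by simp [← Finset.mul_sum, hv], fun A hA => by rw [map_smul, hv' A hA, smul_comm]⟩

theorem f_mem : D.f ∈ D.Va := ⟨D.sum_f, fun A hA => D.op_f hA⟩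

theorem Va_pm (g : G) (v : α → ℂ) (hv : v ∈ D.Va) : pm g v ∈ D.Va :=
  ⟨by rw [sum_pm, hv.1], fun A hA => by rw [op_pm hA, hv.2 A hA, map_smul]⟩

/-- a row of a block minus the scalar -/
noncomputable def rw' (A : Matrix α α ℤ) (i l : Fin 2) (d : ZMod p) : ℤ :=
  D.blk A i l d - if i = l ∧ d = 0 then D.a A else 0

theorem ev_rw (A : Matrix α α ℤ) (i l : Fin 2) (t : ZMod p) :
    ev (D.rw' A i l) t = ev (D.blk A i l) t - if i = l then (D.a A : ℂ) else 0 := by
  classical
  rw [show D.rw' A i l = fun d => D.blk A i l d - (if i = l ∧ d = 0 then D.a A else 0) from rfl, ev_sub]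
  congr 1
  rw [ev, Finset.sum_eq_single 0]
  · by_cases h : i = l <;> simp [h, AddChar.map_zero_eq_one]
  · intro d _ hd; simp [hd]
  · exact fun h => absurd (Finset.mem_univ _) h

theorem u_mem_iff {t : ZMod p} (ht : t ≠ 0) (n : Fin 2 → ℂ) :
    D.u t n ∈ D.Va ↔ ∀ A, Inv G A → ∀ i, ev (D.rw' A i 0) t * n 0 + ev (D.rw' A i 1) t * n 1 = 0 := by
  have key : ∀ A, Inv G A → (op A (D.u t n) = (D.a A : ℂ) • D.u t n ↔
      ∀ i, ev (D.rw' A i 0) t * n 0 + ev (D.rw' A i 1) t * n 1 = 0) := by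
    intro A hA
    rw [D.op_u hA, ← map_smul, (D.u_injective t).eq_iff, funext_iff]
    refine forall_congr' fun i => ?_
    rw [ev_rw, ev_rw, Fin.sum_univ_two, Pi.smul_apply, smul_eq_mul]
    fin_cases i <;> simp <;> constructor <;> intro h <;> linear_combination h
  exact ⟨fun h A hA => (key A hA).1 (h.2 A hA), fun h => ⟨D.sum_u ht n, fun A hA => (key A hA).2 (h A hA)⟩⟩

/-- the cross product of two rows, as integral coefficients -/
noncomputable def cross (A : Matrix α α ℤ) (i : Fin 2) (B : Matrix α α ℤ) (k : Fin 2) (d : ZMod p) : ℤ :=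
  conv (D.rw' A i 0) (D.rw' B k 1) d - conv (D.rw' A i 1) (D.rw' B k 0) d

theorem ev_cross (A : Matrix α α ℤ) (i : Fin 2) (B : Matrix α α ℤ) (k : Fin 2) (t : ZMod p) :
    ev (D.cross A i B k) t =
      ev (D.rw' A i 0) t * ev (D.rw' B k 1) t - ev (D.rw' A i 1) t * ev (D.rw' B k 0) t := by
  rw [show D.cross A i B k = fun d => conv (D.rw' A i 0) (D.rw' B k 1) d - conv (D.rw' A i 1) (D.rw' B k 0) d
    from rfl, ev_sub, ev_conv, ev_conv]

/-- every non-trivial component lies in the eigenspace -/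
def AllRows : Prop := ∀ A, Inv G A → ∀ i l, ev (D.rw' A i l) 1 = 0

/-- two rows are independent -/
def Indep : Prop := ∃ A B, Inv G A ∧ Inv G B ∧ ∃ i k, ev (D.cross A i B k) 1 ≠ 0

theorem mem_of_allRows (h : D.AllRows) {v : α → ℂ} (hv : ∑ y, v y = 0) : v ∈ D.Va := by
  refine D.mem_of_comp_mem fun t => ?_
  rcases eq_or_ne t 0 with rfl | ht
  · obtain ⟨c, hc⟩ := D.comp_zero_of_sum hv
    rw [hc]
    exact D.Va.smul_mem _ D.f_mem
  · rw [comp, D.u_mem_iff ht]
    intro A hA i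
    rw [ev_eq_zero_congr one_ne_zero ht (h A hA i 0), ev_eq_zero_congr one_ne_zero ht (h A hA i 1)]
    ring

theorem comp_eq_zero_of_indep (h : D.Indep) {t : ZMod p} (ht : t ≠ 0) {n : Fin 2 → ℂ}
    (hn : D.u t n ∈ D.Va) : n = 0 := by
  obtain ⟨A, B, hA, hB, i, k, hne⟩ := h
  have hne' : ev (D.cross A i B k) t ≠ 0 := fun e => hne (ev_eq_zero_congr ht one_ne_zero e)
  have hAB := (D.u_mem_iff ht n).1 hn
  have h1 := hAB A hA i
  have h2 := hAB B hB k
  rw [ev_cross] at hne'
  have e0 : (ev (D.rw' A i 0) t * ev (D.rw' B k 1) t - ev (D.rw' A i 1) t * ev (D.rw' B k 0) t) * n 0 = 0 := by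
    linear_combination ev (D.rw' B k 1) t * h1 - ev (D.rw' A i 1) t * h2
  have e1 : (ev (D.rw' A i 0) t * ev (D.rw' B k 1) t - ev (D.rw' A i 1) t * ev (D.rw' B k 0) t) * n 1 = 0 := by
    linear_combination ev (D.rw' A i 0) t * h2 - ev (D.rw' B k 0) t * h1
  funext l
  fin_cases l
  · exact (mul_eq_zero.1 e0).resolve_left hne'
  · exact (mul_eq_zero.1 e1).resolve_left hne'

theorem Va_le_of_indep (h : D.Indep) : D.Va ≤ Submodule.span ℂ {D.f} := by
  intro v hv
  refine D.mem_of_comp_mem fun t => ?_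
  rcases eq_or_ne t 0 with rfl | ht
  · obtain ⟨c, hc⟩ := D.comp_zero_of_sum hv.1
    rw [hc]
    exact Submodule.smul_mem _ _ (Submodule.mem_span_singleton_self _)
  · have h1 := D.comp_mem D.Va_pm hv t
    rw [comp] at h1 ⊢
    rw [D.comp_eq_zero_of_indep h ht h1, map_zero]
    exact zero_mem _

/-- without a common kernel the two cycles are blocks -/
theorem not_indep [MulAction.IsPreprimitive G α] : ¬ D.Indep := by
  intro h
  have hlam : ∀ g : G, ∃ c : ℂ, ∀ y, D.f (g⁻¹ • y) = c * D.f y := fun g => by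
    obtain ⟨c, hc⟩ := Submodule.mem_span_singleton.1 (D.Va_le_of_indep h (D.Va_pm g _ D.f_mem))
    exact ⟨c, fun y => (congrFun hc y).symm⟩
  let O : Set α := {y | D.f y = 1}
  have hB : MulAction.IsBlock G O := by
    rw [MulAction.isBlock_iff_smul_eq_or_disjoint]
    intro g
    obtain ⟨c, hc⟩ := hlam g
    by_cases hc1 : c = 1
    · left
      ext y
      rw [Set.mem_smul_set_iff_inv_smul_mem]
      show D.f (g⁻¹ • y) = 1 ↔ D.f y = 1
      rw [hc, hc1, one_mul]
    · right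
      rw [Set.disjoint_left]
      intro y hy hy'
      rw [Set.mem_smul_set_iff_inv_smul_mem] at hy
      change D.f (g⁻¹ • y) = 1 at hy
      change D.f y = 1 at hy'
      rw [hc, hy', mul_one] at hy
      exact hc1 hy
  rcases MulAction.IsPreprimitive.isTrivialBlock_of_isBlock hB with hs | hs
  · have h0 : D.e (0, 0) = D.e (0, 1) :=
      hs (show D.f _ = 1 by simp [D.f_apply]) (show D.f _ = 1 by simp [D.f_apply])
    have := congrArg Prod.snd (D.e.injective h0)
    exact zero_ne_one this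
  · have : D.e (1, 0) ∈ O := hs ▸ Set.mem_univ _
    change D.f _ = 1 at this
    simp [D.f_apply] at this
    norm_num at this

/-- the single kernel line: a fixed non-zero row and vanishing cross products -/
structure Line where
  A₀ : Matrix α α ℤ
  i₀ : Fin 2
  inv : Inv G A₀
  ne : ∃ l, ev (D.rw' A₀ i₀ l) 1 ≠ 0
  cross_zero : ∀ A B, Inv G A → Inv G B → ∀ i k, ev (D.cross A i B k) 1 = 0

theorem exists_line [MulAction.IsPreprimitive G α] (h : ¬ D.AllRows) : Nonempty D.Line := by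
  simp only [AllRows, not_forall] at h
  obtain ⟨A, hA, i, l, hl⟩ := h
  refine ⟨⟨A, i, hA, ⟨l, hl⟩, fun A' B' hA' hB' i' k' => ?_⟩⟩
  by_contra hne
  exact D.not_indep ⟨A', B', hA', hB', i', k', hne⟩

namespace Line

variable {D} (L : D.Line)

/-- the chosen row -/
noncomputable def r (t : ZMod p) (l : Fin 2) : ℂ := ev (D.rw' L.A₀ L.i₀ l) t

theorem r_ne {t : ZMod p} (ht : t ≠ 0) : L.r t 0 ≠ 0 ∨ L.r t 1 ≠ 0 := by
  obtain ⟨l, hl⟩ := L.ne
  have : L.r t l ≠ 0 := fun e => hl (ev_eq_zero_congr ht one_ne_zero e)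
  fin_cases l
  · exact Or.inl this
  · exact Or.inr this

/-- the kernel vector -/
noncomputable def n (t : ZMod p) : Fin 2 → ℂ := ![-L.r t 1, L.r t 0]

theorem n_mem {t : ZMod p} (ht : t ≠ 0) : D.u t (L.n t) ∈ D.Va := by
  rw [D.u_mem_iff ht]
  intro A hA i
  have h := ev_eq_zero_congr one_ne_zero ht (L.cross_zero A L.A₀ hA L.inv i L.i₀)
  rw [ev_cross] at h
  simp only [n, r, Matrix.cons_val_zero, Matrix.cons_val_one, Matrix.cons_val_fin_one]
  linear_combination -h

theorem eq_smul_n {t : ZMod p} (ht : t ≠ 0) {m : Fin 2 → ℂ} (hm : D.u t m ∈ D.Va) :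
    ∃ c : ℂ, m = c • L.n t := by
  have h := (D.u_mem_iff ht m).1 hm L.A₀ L.inv L.i₀
  change L.r t 0 * m 0 + L.r t 1 * m 1 = 0 at h
  rcases L.r_ne ht with h0 | h1
  · refine ⟨m 1 / L.r t 0, funext fun l => ?_⟩
    fin_cases l
    · simp only [n, Fin.zero_eta, Pi.smul_apply, Matrix.cons_val_zero, smul_eq_mul]
      field_simp
      linear_combination h
    · simp only [n, Fin.mk_one, Pi.smul_apply, Matrix.cons_val_one, Matrix.cons_val_fin_one, smul_eq_mul]
      field_simp
  · refine ⟨-(m 0 / L.r t 1), funext fun l => ?_⟩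
    fin_cases l
    · simp only [n, Fin.zero_eta, Pi.smul_apply, Matrix.cons_val_zero, smul_eq_mul]
      field_simp
    · simp only [n, Fin.mk_one, Pi.smul_apply, Matrix.cons_val_one, Matrix.cons_val_fin_one, smul_eq_mul]
      field_simp
      linear_combination h

end Line

/-- the sum-zero functions orthogonal to the eigenspace -/
noncomputable def W : Submodule ℂ (α → ℂ) where
  carrier := {v | ∑ y, v y = 0 ∧ ∀ z ∈ D.Va, pair v z = 0}
  add_mem' := by
    rintro v w ⟨hv, hv'⟩ ⟨hw, hw'⟩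
    refine ⟨by simp [Finset.sum_add_distrib, hv, hw], fun z hz => ?_⟩
    have := hv' z hz; have := hw' z hz
    simp only [pair, Pi.add_apply, add_mul, Finset.sum_add_distrib] at *
    simp [*]
  zero_mem' := ⟨by simp, fun z _ => by simp [pair]⟩
  smul_mem' := by
    rintro c v ⟨hv, hv'⟩
    refine ⟨by simp [← Finset.mul_sum, hv], fun z hz => ?_⟩
    have := hv' z hz
    simp only [pair, Pi.smul_apply, smul_eq_mul, mul_assoc, ← Finset.mul_sum] at *
    simp [this]

theorem W_pm (g : G) (v : α → ℂ) (hv : v ∈ D.W) : pm g v ∈ D.W := by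
  refine ⟨by rw [sum_pm, hv.1], fun z hz => ?_⟩
  have e : pm g (pm g⁻¹ z) = z := by
    funext y; rw [pm_apply, pm_apply, inv_inv, smul_inv_smul]
  rw [← e, pair_pm]
  exact hv.2 _ (D.Va_pm _ z hz)

theorem W_op {A : Matrix α α ℤ} (hA : Inv G A) {v : α → ℂ} (hv : v ∈ D.W) : op A v ∈ D.W := by
  refine ⟨by rw [D.sum_op hA, hv.1, mul_zero], fun z hz => ?_⟩
  rw [pair_op, hz.2 _ hA.transpose]
  have := hv.2 z hz
  simp only [pair, Pi.smul_apply, smul_eq_mul, mul_left_comm _ ((D.a Aᵀ : ℤ) : ℂ), ← Finset.mul_sum] at *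
  simp [this]

theorem eq_zero_of_mem {v : α → ℂ} (h1 : v ∈ D.W) (h2 : v ∈ D.Va) : v = 0 := by
  obtain ⟨w, hw⟩ : ∃ w : α → ℂ, w = fun y => (starRingEnd ℂ) (v y) := ⟨_, rfl⟩
  have hwV : w ∈ D.Va := by
    refine ⟨by rw [hw, ← map_sum, h2.1, map_zero], fun A hA => funext fun y => ?_⟩
    have h := congrArg (starRingEnd ℂ) (congrFun (h2.2 A hA) y)
    simp only [op_apply, map_sum, map_mul, Pi.smul_apply, smul_eq_mul, map_intCast] at h
    rw [hw, op_apply, Pi.smul_apply, smul_eq_mul]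
    exact h
  have h := h1.2 w hwV
  rw [hw, pair] at h
  simp only [Complex.mul_conj, ← Complex.ofReal_sum, Complex.ofReal_eq_zero] at h
  funext y
  exact Complex.normSq_eq_zero.1
    ((Finset.sum_eq_zero_iff_of_nonneg fun z _ => Complex.normSq_nonneg (v z)).1 h y (Finset.mem_univ y))

theorem comp_zero_W {v : α → ℂ} (hv : v ∈ D.W) : D.comp 0 v = 0 := by
  obtain ⟨c, hc⟩ := D.comp_zero_of_sum hv.1
  refine D.eq_zero_of_mem (D.comp_mem D.W_pm hv 0) ?_
  rw [hc]
  exact D.Va.smul_mem _ D.f_mem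

/-- the coefficients of the second eigenvalue -/
noncomputable def c (A : Matrix α α ℤ) (d : ZMod p) : ℤ :=
  D.blk A 0 0 d + D.blk A 1 1 d - if d = 0 then D.a A else 0

theorem ev_c (A : Matrix α α ℤ) (t : ZMod p) :
    ev (D.c A) t = ev (D.blk A 0 0) t + ev (D.blk A 1 1) t - D.a A := by
  classical
  rw [show D.c A = fun d => (D.blk A 0 0 d + D.blk A 1 1 d) - (if d = 0 then D.a A else 0) from rfl, ev_sub]
  simp only [ev, Int.cast_add, add_mul, Finset.sum_add_distrib]
  congr 1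
  rw [Finset.sum_eq_single 0]
  · simp [AddChar.map_zero_eq_one]
  · intro d _ hd; simp [hd]
  · exact fun h => absurd (Finset.mem_univ _) h

theorem sum_c {A : Matrix α α ℤ} (hA : Inv G A) : ∑ d, D.c A d = D.K A := by
  classical
  simp only [c, Finset.sum_sub_distrib, Finset.sum_add_distrib, (D.blk_sum hA).2.2, a]
  rw [Finset.sum_ite_eq' Finset.univ (0 : ZMod p)]
  simp only [Finset.mem_univ, if_true]
  ring

theorem c_transpose {A : Matrix α α ℤ} (hA : Inv G A) (d : ZMod p) : D.c Aᵀ d = D.c A (-d) := by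
  rw [c, c, D.a_transpose hA, blk, blk, Matrix.transpose_apply, Matrix.transpose_apply, D.inv_blk hA,
    D.inv_blk hA, zero_sub]
  simp [neg_eq_zero]

theorem a_mul {A B : Matrix α α ℤ} (hA : Inv G A) (hB : Inv G B) : (D.a (A * B) : ℂ) = D.a A * D.a B := by
  have h := op_mul A B D.f
  rw [D.op_f (hA.mul hB), D.op_f hB, map_smul, D.op_f hA, smul_smul] at h
  rw [smul_left_injective ℂ D.f_ne_zero h, mul_comm]

namespace Line

variable {D} (L : D.Line)

/-- the vector of the second eigenvalue -/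
noncomputable def w (t : ZMod p) : α → ℂ := D.u t ![L.r (-t) 0, L.r (-t) 1]

theorem w_ne {t : ZMod p} (ht : t ≠ 0) : L.w t ≠ 0 := by
  intro h
  have h' := D.u_injective t (h.trans (map_zero (D.u t)).symm)
  rcases L.r_ne (neg_ne_zero.2 ht) with h0 | h0
  · exact h0 (by simpa using congrFun h' 0)
  · exact h0 (by simpa using congrFun h' 1)

theorem pair_u_Va {t : ZMod p} (m : Fin 2 → ℂ) (h : m 0 * L.n (-t) 0 + m 1 * L.n (-t) 1 = 0) (ht : t ≠ 0)
    {z : α → ℂ} (hz : z ∈ D.Va) : pair (D.u t m) z = 0 := by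
  have hp : (p : ℂ) ≠ 0 := Nat.cast_ne_zero.2 (Fact.out : p.Prime).ne_zero
  have e : pair (D.u t m) ((p : ℂ) • z) = 0 := by
    rw [← D.sum_comp z]
    simp only [pair, Finset.sum_apply, Finset.mul_sum]
    rw [Finset.sum_comm]
    refine Finset.sum_eq_zero fun s _ => ?_
    show pair (D.u t m) (D.comp s z) = 0
    have hmem := D.comp_mem D.Va_pm hz s
    rw [comp] at hmem ⊢
    rw [pair_u]
    split_ifs with hts
    · obtain rfl : s = -t := (neg_eq_of_add_eq_zero_right hts).symm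
      obtain ⟨c, hc⟩ := L.eq_smul_n (neg_ne_zero.2 ht) hmem
      have h2 := congrFun hc 0
      have h3 := congrFun hc 1
      simp only [Pi.smul_apply, smul_eq_mul] at h2 h3
      rw [h2, h3]
      linear_combination ((p : ℂ) * c) * h
    · rfl
  simp only [pair, Pi.smul_apply, smul_eq_mul, mul_left_comm _ (p : ℂ), ← Finset.mul_sum] at e ⊢
  exact (mul_eq_zero.1 e).resolve_left hp

theorem w_mem {t : ZMod p} (ht : t ≠ 0) : L.w t ∈ D.W :=
  ⟨D.sum_u ht _, fun z hz => L.pair_u_Va _ (by simp [n]; ring) ht hz⟩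

theorem eq_smul_w {t : ZMod p} (ht : t ≠ 0) {m : Fin 2 → ℂ} (hm : D.u t m ∈ D.W) :
    ∃ c : ℂ, D.u t m = c • L.w t := by
  have h := hm.2 _ (L.n_mem (neg_ne_zero.2 ht))
  rw [pair_u, if_pos (add_neg_cancel t)] at h
  have h' := (mul_eq_zero.1 h).resolve_left (Nat.cast_ne_zero.2 (Fact.out : p.Prime).ne_zero)
  simp only [n, Matrix.cons_val_zero, Matrix.cons_val_one, Matrix.cons_val_fin_one] at h'
  rcases L.r_ne (neg_ne_zero.2 ht) with h0 | h1
  · refine ⟨m 0 / L.r (-t) 0, ?_⟩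
    rw [w, ← map_smul]
    congr 1
    funext l
    fin_cases l
    · simp only [Fin.zero_eta, Pi.smul_apply, Matrix.cons_val_zero, smul_eq_mul]
      field_simp
    · simp only [Fin.mk_one, Pi.smul_apply, Matrix.cons_val_one, Matrix.cons_val_fin_one, smul_eq_mul]
      field_simp
      linear_combination h'
  · refine ⟨m 1 / L.r (-t) 1, ?_⟩
    rw [w, ← map_smul]
    congr 1
    funext l
    fin_cases l
    · simp only [Fin.zero_eta, Pi.smul_apply, Matrix.cons_val_zero, smul_eq_mul]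
      field_simp
      linear_combination -h'
    · simp only [Fin.mk_one, Pi.smul_apply, Matrix.cons_val_one, Matrix.cons_val_fin_one, smul_eq_mul]
      field_simp

/-- the second eigenvalue -/
theorem op_w {A : Matrix α α ℤ} (hA : Inv G A) {t : ZMod p} (ht : t ≠ 0) :
    op A (L.w t) = ev (D.c A) t • L.w t := by
  obtain ⟨m, hm⟩ : ∃ m : Fin 2 → ℂ, m = ![L.r (-t) 0, L.r (-t) 1] := ⟨_, rfl⟩
  have hw : L.w t = D.u t m := by rw [hm]; rfl
  obtain ⟨b, hb⟩ : ∃ b : ℂ, op A (L.w t) = b • L.w t := by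
    have h := D.W_op hA (L.w_mem ht)
    rw [hw, D.op_u hA] at h
    obtain ⟨b, hb⟩ := L.eq_smul_w ht h
    exact ⟨b, by rw [hw, D.op_u hA, hb, hw]⟩
  have hb' : ∀ i, ∑ l, ev (D.blk A i l) t * m l = b * m i := by
    rw [hw, D.op_u hA, ← map_smul] at hb
    exact fun i => congrFun (D.u_injective t hb) i
  have hn : ∀ i, ∑ l, ev (D.blk A i l) t * L.n t l = (D.a A : ℂ) * L.n t i := by
    have h := (L.n_mem ht).2 A hA
    rw [D.op_u hA, ← map_smul] at h
    exact fun i => congrFun (D.u_injective t h) i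
  have hdet : m 0 * L.n t 1 - m 1 * L.n t 0 ≠ 0 := by
    intro h0
    refine L.w_ne ht (D.eq_zero_of_mem (L.w_mem ht) ?_)
    rw [hw, D.u_mem_iff ht]
    intro B hB i
    have h1 := (D.u_mem_iff ht _).1 (L.n_mem ht) B hB i
    have h2 : L.n t 0 ≠ 0 ∨ L.n t 1 ≠ 0 := by
      rcases L.r_ne ht with h | h
      · exact Or.inr (by simpa [n] using h)
      · exact Or.inl (by simpa [n] using h)
    rcases h2 with h2 | h2
    · refine (mul_eq_zero.1 (?_ : _ * L.n t 0 = 0)).resolve_right h2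
      linear_combination m 0 * h1 - ev (D.rw' B i 1) t * h0
    · refine (mul_eq_zero.1 (?_ : _ * L.n t 1 = 0)).resolve_right h2
      linear_combination m 1 * h1 + ev (D.rw' B i 0) t * h0
  have hbt : b = ev (D.c A) t := by
    have e0 := hb' 0; have e1 := hb' 1; have f0 := hn 0; have f1 := hn 1
    rw [Fin.sum_univ_two] at e0 e1 f0 f1
    rw [ev_c]
    refine mul_right_cancel₀ hdet ?_
    linear_combination -L.n t 1 * e0 + L.n t 0 * e1 + m 1 * f0 - m 0 * f1
  rw [hb, hbt]

include L in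
theorem ev_c_mul {A B : Matrix α α ℤ} (hA : Inv G A) (hB : Inv G B) {t : ZMod p} (ht : t ≠ 0) :
    ev (D.c (A * B)) t = ev (D.c A) t * ev (D.c B) t := by
  have h := op_mul A B (L.w t)
  rw [L.op_w (hA.mul hB) ht, L.op_w hB ht, map_smul, L.op_w hA ht, smul_smul] at h
  rw [smul_left_injective ℂ (L.w_ne ht) h, mul_comm]

include L in
/-- the sum of the squares of the coefficients -/
theorem sum_sq {A : Matrix α α ℤ} (hA : Inv G A) : D.c (A * Aᵀ) 0 = ∑ d, D.c A d ^ 2 := by
  classical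
  have hB := hA.mul hA.transpose
  obtain ⟨C, hC⟩ : ∃ C : ZMod p → ℤ, C = fun d => D.c (A * Aᵀ) d - conv (D.c A) (D.c Aᵀ) d := ⟨_, rfl⟩
  have hz : ev C 1 = 0 := by
    rw [hC, ev_sub, ev_conv, L.ev_c_mul hA hA.transpose one_ne_zero, sub_self]
  have hconst := const_of_ev_eq_zero one_ne_zero hz
  have hK : (D.K (A * Aᵀ) : ℂ) = D.K A * D.K Aᵀ := by
    have h := op_mul A Aᵀ (fun _ => (1 : ℂ))
    have h1 := congrFun h D.o
    simp only [op_apply, mul_one] at h1
    rw [K, K, Int.cast_sum, h1]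
    simp only [← Int.cast_sum, D.row_sum hA.transpose]
    rw [← Finset.sum_mul, ← Int.cast_sum]
  have hsum : ∑ d, C d = 0 := by
    rw [hC, Finset.sum_sub_distrib, sum_conv, D.sum_c hB, D.sum_c hA, D.sum_c hA.transpose]
    exact_mod_cast sub_eq_zero.2 hK
  rw [Finset.sum_congr rfl fun d _ => hconst d, Finset.sum_const, Finset.card_univ, ZMod.card, nsmul_eq_mul,
    mul_eq_zero] at hsum
  have h0 := hsum.resolve_left (Nat.cast_ne_zero.2 (Fact.out : p.Prime).ne_zero)
  rw [hC] at h0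
  rw [sub_eq_zero.1 h0, conv]
  exact Finset.sum_congr rfl fun d _ => by rw [D.c_transpose hA, zero_sub, neg_neg]; ring

end Line

end Coord

end CfsgLib.Perm.WielandtTwoP
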